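import Groth.Agent.AdicRing.K25.ComplExact
import Groth.Agent.Divis.BlowAlg
import Mathlib.RingTheory.Flat.EquationalCriterion

/-!
# The formal blow-up chart algebra `A_i` is a completion of the affine blow-up algebra

For an algebra `A` topologically of finite type over a base ring and `f : ι → A` (finite), the chart algebra
`A_i = chartCompl / (f_i-power torsion)` receives a canonical map from the affine blow-up algebra
`A[𝔞/f_i]`, and this map is an isomorphism modulo all powers of `I`.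
-/

set_option autoImplicit false

universe u v

open AdicRing BlowUp

namespace K25.ChartAlg

section Alg

variable {A : Type u} [CommRing A] {ι : Type} (f : ι → A) (i : ι)

/-- the coordinate `ζ_j` of the chart algebra -/
noncomputable def zt (j : {j : ι // j ≠ i}) : chartAlg f i := Ideal.Quotient.mk _ (MvPolynomial.X j)

theorem mul_zt (j : {j : ι // j ≠ i}) :
    algebraMap A (chartAlg f i) (f i) * zt f i j = algebraMap A (chartAlg f i) (f j.1) := by
  have h : (MvPolynomial.C (f i) * MvPolynomial.X j - MvPolynomial.C (f j.1) :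
      MvPolynomial {j : ι // j ≠ i} A) ∈
      Ideal.span (Set.range fun j : {j : ι // j ≠ i} =>
        MvPolynomial.C (f i) * MvPolynomial.X j - MvPolynomial.C (f j.1)) :=
    Ideal.subset_span ⟨j, rfl⟩
  have h2 := (Ideal.Quotient.mk_eq_mk_iff_sub_mem _ _).2 h
  rw [map_mul] at h2
  exact h2

/-- After multiplication by a power of `f_i`, every element of the chart algebra comes from `A`. -/
theorem exists_pow_mul (c : chartAlg f i) : ∃ (n : ℕ) (a : A),
    algebraMap A (chartAlg f i) (f i) ^ n * c = algebraMap A (chartAlg f i) a := by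
  obtain ⟨p, rfl⟩ := Ideal.Quotient.mk_surjective c
  induction p using MvPolynomial.induction_on with
  | C a => exact ⟨0, a, by rw [pow_zero, one_mul]; rfl⟩
  | add p q hp hq =>
    obtain ⟨n, a, hn⟩ := hp
    obtain ⟨m, b, hm⟩ := hq
    refine ⟨n + m, f i ^ m * a + f i ^ n * b, ?_⟩
    rw [map_add, mul_add, map_add, map_mul, map_mul, map_pow, map_pow, ← hn, ← hm]
    ring
  | mul_X p j hp =>
    obtain ⟨n, a, hn⟩ := hp
    refine ⟨n + 1, a * f j.1, ?_⟩
    rw [map_mul, map_mul, ← mul_zt f i j, ← hn, pow_succ]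
    change _ * (_ * zt f i j) = _
    ring

variable (𝔞 : Ideal A) (h𝔞 : 𝔞 = Ideal.span (Set.range f))

include h𝔞 in
theorem mem_ideal (j : ι) : f j ∈ 𝔞 := h𝔞 ▸ Ideal.subset_span ⟨j, rfl⟩

/-- the fraction `x/f_i` of the affine blow-up algebra -/
noncomputable def fr {a : A} {x : A} (hx : x ∈ 𝔞) : affineAlgebra A 𝔞 a :=
  ⟨IsLocalization.mk' (Localization.Away a) x ⟨a, Submonoid.mem_powers a⟩,
    Algebra.subset_adjoin ⟨x, hx, rfl⟩⟩

theorem mul_fr {a : A} {x : A} (hx : x ∈ 𝔞) :
    algebraMap A (affineAlgebra A 𝔞 a) a * fr 𝔞 hx = algebraMap A _ x := by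
  apply Subtype.ext
  change algebraMap A (Localization.Away a) a * _ = algebraMap A (Localization.Away a) x
  rw [mul_comm]
  exact IsLocalization.mk'_spec (Localization.Away a) x ⟨a, Submonoid.mem_powers a⟩

/-- the canonical map from the chart algebra to the affine blow-up algebra -/
noncomputable def toB : chartAlg f i →ₐ[A] affineAlgebra A 𝔞 (f i) :=
  Ideal.Quotient.liftₐ _ (MvPolynomial.aeval fun j : {j : ι // j ≠ i} => fr 𝔞 (a := f i) (mem_ideal f 𝔞 h𝔞 j.1)) (by
    intro x hx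
    induction hx using Submodule.span_induction with
    | mem x hx =>
      obtain ⟨j, rfl⟩ := hx
      rw [map_sub, map_mul, MvPolynomial.aeval_C, MvPolynomial.aeval_C, MvPolynomial.aeval_X, mul_fr, sub_self]
    | zero => rw [map_zero]
    | add x y _ _ hx hy => rw [map_add, hx, hy, add_zero]
    | smul a x _ hx => rw [smul_eq_mul, map_mul, hx, mul_zero])

theorem toB_zt (j : {j : ι // j ≠ i}) : toB f i 𝔞 h𝔞 (zt f i j) = fr 𝔞 (mem_ideal f 𝔞 h𝔞 j.1) := by
  unfold toB zt
  erw [Ideal.Quotient.liftₐ_apply, Ideal.Quotient.lift_mk]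
  exact MvPolynomial.aeval_X _ j

theorem toB_surjective : Function.Surjective (toB f i 𝔞 h𝔞) := by
  classical
  -- every fraction `x/f_i` with `x ∈ 𝔞` is in the range
  have key : ∀ (x : A) (hx : x ∈ 𝔞), fr 𝔞 (a := f i) hx ∈ (toB f i 𝔞 h𝔞).range := by
    intro x hx
    have hreg := Groth.Agent.Divis.BlowAlg.algebraMap_mem_nonZeroDivisors 𝔞 (f i)
    have hx' := hx
    rw [h𝔞] at hx'
    induction hx' using Submodule.span_induction with
    | mem x hx' =>
      obtain ⟨j, rfl⟩ := hx'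
      by_cases hj : j = i
      · subst hj
        refine ⟨1, ?_⟩
        rw [map_one]
        apply (mul_cancel_left_mem_nonZeroDivisors hreg).1
        rw [mul_fr, mul_one]
      · exact ⟨zt f i ⟨j, hj⟩, toB_zt f i 𝔞 h𝔞 ⟨j, hj⟩⟩
    | zero =>
      refine ⟨0, ?_⟩
      rw [map_zero]
      apply (mul_cancel_left_mem_nonZeroDivisors hreg).1
      rw [mul_fr, mul_zero, map_zero]
    | add x y hx1 hy1 hx2 hy2 =>
      obtain ⟨c, hc⟩ := hx2 (h𝔞 ▸ hx1)
      obtain ⟨d, hd⟩ := hy2 (h𝔞 ▸ hy1)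
      refine ⟨c + d, ?_⟩
      rw [map_add]
      apply (mul_cancel_left_mem_nonZeroDivisors hreg).1
      erw [hc, hd]
      rw [mul_fr, mul_add, mul_fr, mul_fr, map_add]
    | smul a x hx1 hx2 =>
      obtain ⟨c, hc⟩ := hx2 (h𝔞 ▸ hx1)
      refine ⟨algebraMap A _ a * c, ?_⟩
      rw [map_mul]
      apply (mul_cancel_left_mem_nonZeroDivisors hreg).1
      erw [hc]
      rw [mul_fr, smul_eq_mul, map_mul, ← mul_assoc, mul_comm (algebraMap A _ (f i)), mul_assoc, mul_fr]
      exact congrArg (· * _) ((toB f i 𝔞 h𝔞).commutes a)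
  have hle : affineAlgebra A 𝔞 (f i) ≤ ((toB f i 𝔞 h𝔞).range.map (affineAlgebra A 𝔞 (f i)).val) := by
    unfold affineAlgebra
    rw [Algebra.adjoin_le_iff]
    rintro _ ⟨x, hx, rfl⟩
    exact ⟨fr 𝔞 hx, key x hx, rfl⟩
  intro b
  obtain ⟨b', ⟨c, hc⟩, hb⟩ := hle b.2
  refine ⟨c, ?_⟩
  apply Subtype.ext
  rw [← hb]
  exact congrArg Subtype.val hc

/-- The kernel of the map to the affine blow-up algebra is the `f_i`-power torsion. -/
theorem toB_eq_zero {c : chartAlg f i} (hc : toB f i 𝔞 h𝔞 c = 0) :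
    ∃ n : ℕ, algebraMap A (chartAlg f i) (f i) ^ n * c = 0 := by
  obtain ⟨n, a, hn⟩ := exists_pow_mul f i c
  have h1 := congrArg (toB f i 𝔞 h𝔞) hn
  rw [map_mul, hc, mul_zero, AlgHom.commutes] at h1
  have h2 : algebraMap A (Localization.Away (f i)) a = 0 := (congrArg Subtype.val h1).symm
  rw [IsLocalization.map_eq_zero_iff (Submonoid.powers (f i))] at h2
  obtain ⟨⟨_, m, rfl⟩, hm⟩ := h2
  refine ⟨m + n, ?_⟩
  rw [pow_add, mul_assoc, hn, ← map_pow, ← map_mul]
  rw [show f i ^ m * a = 0 from hm, map_zero]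

end Alg

section Flat

/-- In a flat algebra, the annihilator of an element is generated by the annihilator downstairs. -/
theorem mem_map_of_mul_eq_zero {C : Type*} [CommRing C] {D : Type*} [CommRing D] [Algebra C D] [Module.Flat C D] (g : C)
    (x : D) (hx : algebraMap C D g * x = 0) :
    x ∈ Ideal.map (algebraMap C D) (Submodule.torsionBy C C g) := by
  have h1 := Module.Flat.isTrivialRelation_of_sum_smul_eq_zero (R := C) (M := D) (ι := Unit) (f := fun _ => g)
    (x := fun _ => x) (by rw [Finset.univ_unique, Finset.sum_singleton, Algebra.smul_def]; exact hx)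
  obtain ⟨κ, a, y, hxy, ha⟩ := h1
  have h2 : x = ∑ j, a () j • y j := hxy ()
  rw [h2]
  refine Ideal.sum_mem _ fun j _ => ?_
  rw [Algebra.smul_def]
  refine Ideal.mul_mem_right _ _ (Ideal.mem_map_of_mem _ ?_)
  rw [Submodule.mem_torsionBy_iff, smul_eq_mul]
  have := ha j
  rw [Finset.univ_unique, Finset.sum_singleton] at this
  exact this

end Flat

section Compl

variable {R : Type u} [CommRing R] {I : Ideal R} {A : Type u} [CommRing A] [Algebra R A] {ι : Type} (f : ι → A) (i : ι)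

variable (I) in
/-- the ideal of `f_i`-power torsion elements -/
noncomputable abbrev tors : Ideal (chartCompl I f i) := ⨆ n : ℕ, Submodule.torsionBy (chartCompl I f i) (chartCompl I f i)
    (algebraMap A (chartCompl I f i) (f i) ^ n)

theorem mem_tors (x : chartCompl I f i) :
    x ∈ tors I f i ↔ ∃ n : ℕ, algebraMap A (chartCompl I f i) (f i) ^ n * x = 0 := by
  have hdir : Directed (· ≤ ·) fun n : ℕ => Submodule.torsionBy (chartCompl I f i) (chartCompl I f i)
      (algebraMap A (chartCompl I f i) (f i) ^ n) := by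
    refine Monotone.directed_le fun m n hmn => ?_
    obtain ⟨k, rfl⟩ := Nat.exists_eq_add_of_le hmn
    intro x hx
    rw [Submodule.mem_torsionBy_iff, smul_eq_mul] at hx ⊢
    rw [add_comm, pow_add, mul_assoc, hx, mul_zero]
  unfold tors
  rw [Submodule.mem_iSup_of_directed _ hdir]
  rfl

theorem mul_mem_tors {x : chartCompl I f i} (h : algebraMap A (chartCompl I f i) (f i) * x ∈ tors I f i) :
    x ∈ tors I f i := by
  rw [mem_tors] at h ⊢
  obtain ⟨n, hn⟩ := h
  exact ⟨n + 1, by rw [pow_succ, mul_assoc, hn]⟩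

/-- `f_i` is a nonzerodivisor of `A_i`. -/
theorem mem_nonZeroDivisors : algebraMap A (chartAdm I f i) (f i) ∈ nonZeroDivisors (chartAdm I f i) := by
  rw [mem_nonZeroDivisors_iff_right]
  intro x hx
  obtain ⟨x, rfl⟩ := Ideal.Quotient.mk_surjective x
  have h1 : Ideal.Quotient.mk (tors I f i) (x * algebraMap A (chartCompl I f i) (f i)) = 0 := by
    rw [map_mul]
    exact hx
  rw [Ideal.Quotient.eq_zero_iff_mem, mul_comm] at h1
  exact Ideal.Quotient.eq_zero_iff_mem.2 (mul_mem_tors f i h1)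

/-- the composite `C → C^ → A_i` -/
noncomputable def toAdm : chartAlg f i →ₐ[A] chartAdm I f i :=
  (Ideal.Quotient.mkₐ A (tors I f i)).comp (IsScalarTower.toAlgHom A (chartAlg f i) (chartCompl I f i))

theorem toAdm_apply (c : chartAlg f i) : toAdm (I := I) f i c =
    Ideal.Quotient.mk (tors I f i) (algebraMap (chartAlg f i) (chartCompl I f i) c) := rfl

theorem mul_toAdm_zt (j : {j : ι // j ≠ i}) :
    algebraMap A (chartAdm I f i) (f i) * toAdm f i (zt f i j) = algebraMap A (chartAdm I f i) (f j.1) := by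
  have h := congrArg (toAdm (I := I) f i) (mul_zt f i j)
  rw [map_mul, AlgHom.commutes, AlgHom.commutes] at h
  exact h

variable (𝔞 : Ideal A) (h𝔞 : 𝔞 = Ideal.span (Set.range f))

include h𝔞 in
theorem exists_eq_mul {x : A} (hx : x ∈ 𝔞) : ∃ t : chartAdm I f i,
    algebraMap A (chartAdm I f i) x = algebraMap A (chartAdm I f i) (f i) * t := by
  classical
  have h1 : 𝔞 ≤ (Ideal.span {algebraMap A (chartAdm I f i) (f i)}).comap (algebraMap A (chartAdm I f i)) := by
    rw [h𝔞, Ideal.span_le]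
    rintro _ ⟨j, rfl⟩
    rw [SetLike.mem_coe, Ideal.mem_comap, Ideal.mem_span_singleton]
    by_cases hj : j = i
    · subst hj
      exact dvd_rfl
    · exact ⟨_, (mul_toAdm_zt f i ⟨j, hj⟩).symm⟩
  exact Ideal.mem_span_singleton.1 (h1 hx)

include h𝔞 in
/-- `𝔞` generates the ideal `(f_i)` of `A_i`. -/
theorem map_eq_span : 𝔞.map (algebraMap A (chartAdm I f i)) =
    Ideal.span {algebraMap A (chartAdm I f i) (f i)} := by
  apply le_antisymm
  · rw [Ideal.map_le_iff_le_comap]
    intro x hx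
    rw [Ideal.mem_comap, Ideal.mem_span_singleton]
    exact exists_eq_mul f i 𝔞 h𝔞 hx
  · rw [Ideal.span_le, Set.singleton_subset_iff]
    exact Ideal.mem_map_of_mem _ (mem_ideal f 𝔞 h𝔞 i)

include h𝔞 in
/-- The canonical map from the affine blow-up algebra to `A_i`. -/
theorem exists_theta : ∃ θ : affineAlgebra A 𝔞 (f i) →+* chartAdm I f i,
    θ.comp (algebraMap A _) = algebraMap A (chartAdm I f i) ∧ ∀ c, θ (toB f i 𝔞 h𝔞 c) = toAdm f i c := by
  obtain ⟨θ, hθ⟩ := Groth.Agent.Divis.BlowAlg.exists_hom 𝔞 (f i) (algebraMap A (chartAdm I f i))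
    (mem_nonZeroDivisors f i) (fun x hx => exists_eq_mul f i 𝔞 h𝔞 hx)
  refine ⟨θ, hθ, fun c => ?_⟩
  have hθ' : ∀ a, θ (algebraMap A _ a) = algebraMap A (chartAdm I f i) a := fun a => congr($hθ a)
  obtain ⟨n, a, hn⟩ := exists_pow_mul f i c
  have h1 := congrArg (toB f i 𝔞 h𝔞) hn
  have h2 := congrArg (toAdm (I := I) f i) hn
  rw [map_mul, map_pow, AlgHom.commutes, AlgHom.commutes] at h1 h2
  have h3 := congrArg θ h1
  rw [map_mul, map_pow, hθ', hθ', ← h2] at h3
  exact (mul_cancel_left_mem_nonZeroDivisors (pow_mem (mem_nonZeroDivisors f i) n)).1 h3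

/-- The ideal of `f_i`-power torsion elements of the chart algebra. -/
def torsC : Ideal (chartAlg f i) where
  carrier := {c | ∃ n : ℕ, algebraMap A (chartAlg f i) (f i) ^ n * c = 0}
  add_mem' := by
    rintro a b ⟨n, hn⟩ ⟨m, hm⟩
    refine ⟨n + m, ?_⟩
    have : algebraMap A (chartAlg f i) (f i) ^ (n + m) * (a + b) =
      algebraMap A (chartAlg f i) (f i) ^ m * (algebraMap A (chartAlg f i) (f i) ^ n * a) +
      algebraMap A (chartAlg f i) (f i) ^ n * (algebraMap A (chartAlg f i) (f i) ^ m * b) := by ring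
    rw [this, hn, hm, mul_zero, mul_zero, add_zero]
  zero_mem' := ⟨0, by rw [mul_zero]⟩
  smul_mem' := by
    rintro c a ⟨n, hn⟩
    refine ⟨n, ?_⟩
    rw [smul_eq_mul, mul_left_comm, hn, mul_zero]

theorem tors_le [Module.Flat (chartAlg f i) (chartCompl I f i)] :
    tors I f i ≤ (torsC f i).map (algebraMap (chartAlg f i) (chartCompl I f i)) := by
  intro x hx
  rw [mem_tors] at hx
  obtain ⟨n, hn⟩ := hx
  have h1 := mem_map_of_mul_eq_zero (C := chartAlg f i) (algebraMap A (chartAlg f i) (f i) ^ n) x (by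
    rw [map_pow, ← IsScalarTower.algebraMap_apply]
    exact hn)
  have h2 : Submodule.torsionBy (chartAlg f i) (chartAlg f i) (algebraMap A (chartAlg f i) (f i) ^ n) ≤ torsC f i := by
    intro c hc
    rw [Submodule.mem_torsionBy_iff, smul_eq_mul] at hc
    exact ⟨n, hc⟩
  exact Ideal.map_mono h2 h1

theorem map_pow_map (n : ℕ) : ((I.map (algebraMap R A)) ^ n).map (algebraMap A (chartAlg f i)) =
    (I.map (algebraMap R (chartAlg f i))) ^ n := by
  rw [Ideal.map_pow, Ideal.map_map, ← IsScalarTower.algebraMap_eq]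

/-- Density: `A[𝔞/f_i]` is dense in `A_i`. -/
theorem exists_sub_mem (hI : I.FG) (θ : affineAlgebra A 𝔞 (f i) →+* chartAdm I f i)
    (hθ : ∀ c, θ (toB f i 𝔞 h𝔞 c) = toAdm f i c) (n : ℕ) (x : chartAdm I f i) :
    ∃ b, x - θ b ∈ ((I.map (algebraMap R A)) ^ n).map (algebraMap A (chartAdm I f i)) := by
  obtain ⟨x, rfl⟩ := Ideal.Quotient.mk_surjective x
  obtain ⟨c, hc⟩ := K25.Base.exists_sub_mem (I.map (algebraMap R (chartAlg f i))) (Ideal.FG.map hI _) n x
  refine ⟨toB f i 𝔞 h𝔞 c, ?_⟩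
  rw [hθ, toAdm_apply, ← map_sub]
  have h1 : ((I.map (algebraMap R A)) ^ n).map (algebraMap A (chartAdm I f i)) =
      ((((I.map (algebraMap R A)) ^ n).map (algebraMap A (chartAlg f i))).map
        (algebraMap (chartAlg f i) (chartCompl I f i))).map (Ideal.Quotient.mk (tors I f i)) := by
    rw [Ideal.map_map, Ideal.map_map]
    rfl
  rw [h1, map_pow_map]
  exact Ideal.mem_map_of_mem _ hc

/-- Injectivity modulo powers: `A[𝔞/f_i] ∩ K^n A_i = K^n A[𝔞/f_i]`. -/
theorem mem_of_theta_mem [Module.Flat (chartAlg f i) (chartCompl I f i)]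
    (hI : I.FG) (θ : affineAlgebra A 𝔞 (f i) →+* chartAdm I f i)
    (hθ : ∀ c, θ (toB f i 𝔞 h𝔞 c) = toAdm f i c) (n : ℕ) (b : affineAlgebra A 𝔞 (f i))
    (hb : θ b ∈ ((I.map (algebraMap R A)) ^ n).map (algebraMap A (chartAdm I f i))) :
    b ∈ ((I.map (algebraMap R A)) ^ n).map (algebraMap A (affineAlgebra A 𝔞 (f i))) := by
  obtain ⟨c, rfl⟩ := toB_surjective f i 𝔞 h𝔞 b
  have h1 : ((I.map (algebraMap R A)) ^ n).map (algebraMap A (chartAdm I f i)) =
      ((((I.map (algebraMap R A)) ^ n).map (algebraMap A (chartAlg f i))).map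
        (algebraMap (chartAlg f i) (chartCompl I f i))).map (Ideal.Quotient.mk (tors I f i)) := by
    rw [Ideal.map_map, Ideal.map_map]
    rfl
  rw [hθ, toAdm_apply, h1, map_pow_map, ← Ideal.mem_comap,
    Ideal.comap_map_of_surjective (Ideal.Quotient.mk (tors I f i)) Ideal.Quotient.mk_surjective,
    ← RingHom.ker_eq_comap_bot, Ideal.mk_ker] at hb
  set J := I.map (algebraMap R (chartAlg f i)) with hJ
  -- the evaluation to `C/(J^n + T)`
  let ev : chartCompl I f i →+* chartAlg f i ⧸ (J ^ n ⊔ torsC f i) :=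
    (Ideal.Quotient.factor (le_sup_left : J ^ n ≤ J ^ n ⊔ torsC f i)).comp
      (AdicCompletion.evalₐ J n : AdicCompletion J (chartAlg f i) →+* chartAlg f i ⧸ J ^ n)
  have hev : ∀ c : chartAlg f i, ev (algebraMap (chartAlg f i) (chartCompl I f i) c) =
      Ideal.Quotient.mk (J ^ n ⊔ torsC f i) c := by
    intro c
    have h2 : AdicCompletion.evalₐ J n (algebraMap (chartAlg f i) (AdicCompletion J (chartAlg f i)) c) =
      Ideal.Quotient.mk (J ^ n) c := AdicCompletion.evalₐ_of J n c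
    have h3 : ev (algebraMap (chartAlg f i) (chartCompl I f i) c) =
        Ideal.Quotient.factor (le_sup_left : J ^ n ≤ J ^ n ⊔ torsC f i)
          (AdicCompletion.evalₐ J n (algebraMap (chartAlg f i) (AdicCompletion J (chartAlg f i)) c)) := rfl
    rw [h3, h2, Ideal.Quotient.factor_mk]
  have hle : (J ^ n).map (algebraMap (chartAlg f i) (chartCompl I f i)) ⊔ tors I f i ≤ RingHom.ker ev := by
    refine sup_le ?_ ((tors_le f i).trans ?_)
    · rw [Ideal.map_le_iff_le_comap]
      intro x hx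
      rw [Ideal.mem_comap, RingHom.mem_ker, hev]
      exact Ideal.Quotient.eq_zero_iff_mem.2 (le_sup_left (a := J ^ n) hx)
    · rw [Ideal.map_le_iff_le_comap]
      intro x hx
      rw [Ideal.mem_comap, RingHom.mem_ker, hev]
      exact Ideal.Quotient.eq_zero_iff_mem.2 (le_sup_right (a := J ^ n) hx)
  have h3 := hle hb
  rw [RingHom.mem_ker, hev, Ideal.Quotient.eq_zero_iff_mem, Submodule.mem_sup] at h3
  obtain ⟨y, hy, z, ⟨m, hz⟩, hyz⟩ := h3
  have hz0 : toB f i 𝔞 h𝔞 z = 0 := by
    have h4 := congrArg (toB f i 𝔞 h𝔞) hz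
    rw [map_mul, map_pow, AlgHom.commutes, map_zero] at h4
    have h5 := pow_mem (Groth.Agent.Divis.BlowAlg.algebraMap_mem_nonZeroDivisors 𝔞 (f i)) m
    exact (mul_left_mem_nonZeroDivisors_eq_zero_iff h5).1 h4
  rw [← hyz, map_add, hz0, add_zero]
  rw [hJ, ← map_pow_map] at hy
  have h6 := Ideal.mem_map_of_mem (toB f i 𝔞 h𝔞 : chartAlg f i →+* affineAlgebra A 𝔞 (f i)) hy
  rw [Ideal.map_map] at h6
  have h7 : (toB f i 𝔞 h𝔞 : chartAlg f i →+* affineAlgebra A 𝔞 (f i)).comp (algebraMap A (chartAlg f i)) =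
    algebraMap A _ := (toB f i 𝔞 h𝔞).comp_algebraMap
  rw [h7] at h6
  exact h6

end Compl

end K25.ChartAlg
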