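import Groth.Agent.FBlow.K25.Pres

/-!
# The chart locus of a formal blow-up: where `a ∈ 𝔞` generates the inverse image ideal
-/

set_option autoImplicit false

universe u

open CategoryTheory CategoryTheory.Limits TopologicalSpace Opposite AlgebraicGeometry

namespace K25.Locus

open FSch FBlow K788.Inv K788.SpfB K788.SysB K788.Osh K788.Restr K788.IdSh K788.GenL K788.Aff K788.AffSch K788.UP
  Groth.Agent.Divis.BlowChart Groth.Agent.Divis.BlowTwist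

theorem gn_sect_eq {T : TopCat.{u}} {O : Sheaf (Opens.grothendieckTopology T) CommRingCat.{u}}
    {𝔟₁ 𝔟₂ : Ideal (O.obj.obj (op ⊤))} {V V' : Opens T} (i : V' ≤ V)
    (e : 𝔟₁.map (rs O (le_top : V ≤ ⊤)) = 𝔟₂.map (rs O (le_top : V ≤ ⊤))) :
    (gn 𝔟₁).sect V' = (gn 𝔟₂).sect V' := by
  have key : ∀ W : Opens T, W ≤ V' → 𝔟₁.map (rs O (le_top : W ≤ ⊤)) = 𝔟₂.map (rs O (le_top : W ≤ ⊤)) := by
    intro W hW
    have e2 : (rs O (hW.trans i)).comp (rs O (le_top : V ≤ ⊤)) = rs O (le_top : W ≤ ⊤) := by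
      ext t
      exact rs_rs _ _ _
    rw [← e2, ← Ideal.map_map, e, Ideal.map_map]
  ext s
  rw [mem_gn, mem_gn]
  refine forall_congr' fun x => forall_congr' fun hx => exists_congr fun W => exists_congr fun j =>
    and_congr_right fun _ => ?_
  rw [key W j]

variable {A : Type u} [CommRing A] {K 𝔞 : Ideal A} {P : Scheme.{u}} {q : P ⟶ Spec (CommRingCat.of A)}
  {𝔛 : FSch.Sys.{u}}

theorem map_sg_map_rs (h : 𝔛.IsFormal) {r : ∀ n, 𝔛.X n ⟶ P} (w : ∀ n, 𝔛.ι n ≫ r (n + 1) = r n)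
    (w' : ∀ n, 𝔛.ι n ≫ r (n + 1) ≫ q = r n ≫ q) (W : P.Opens) (𝔠 : Ideal A) :
    (𝔠.map (sg h (fun n => r n ≫ q) w')).map (rs (𝔛.Osh h) (le_top : r 0 ⁻¹ᵁ W ≤ ⊤)) =
      (𝔠.map (rho q W)).map (ssh h r w W) := by
  have e1 : (rs (𝔛.Osh h) (le_top : r 0 ⁻¹ᵁ W ≤ ⊤)).comp (sg h (fun n => r n ≫ q) w') =
      (ssh h r w W).comp (rho q W) := by
    ext α
    exact rs_sg h w w' W α
  rw [Ideal.map_map, e1, ← Ideal.map_map]

theorem locus_iff (h : 𝔛.IsFormal) (hGd : Gd A K) {k : ℕ} (hk : K ^ k ≤ 𝔞)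
    (hq : BlowUp.IsBlowUp q (idealSpec A 𝔞)) {r : ∀ n, 𝔛.X n ⟶ P} (hc : IsCompl r ((idealSpec A K).comap q))
    (w' : ∀ n, 𝔛.ι n ≫ r (n + 1) ≫ q = r n ≫ q) {a : A} (ha : a ∈ 𝔞) (x : 𝔛.X 0) :
    (∃ V : (𝔛.X 0).Opens, x ∈ V ∧ ∀ V' : (𝔛.X 0).Opens, V' ≤ V →
      (gn (O := 𝔛.Osh h) (𝔞.map (sg h (fun n => r n ≫ q) w'))).sect V' =
        (gn (O := 𝔛.Osh h) ((Ideal.span {a}).map (sg h (fun n => r n ≫ q) w'))).sect V') ↔
      r 0 x ∈ chartLocus 𝔞 q a := by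
  constructor
  · rintro ⟨V, hxV, hV⟩
    obtain ⟨W, hxW, α, hα, e⟩ := hq.1 (r 0 x)
    have hnzd := nzd_ssh h hc W (ar_of_isEff hGd hk hq W α e)
    have e' : 𝔞.map (rho q W.1) = Ideal.span {α} := by
      rw [← comap_idl, ← idealSpec_eq_idl, e]
    have h1 : rho q W.1 a ∈ Ideal.span {α} := by
      rw [← e']
      exact Ideal.mem_map_of_mem _ ha
    obtain ⟨t, ht⟩ := Ideal.mem_span_singleton.1 h1
    -- `ssh α` is a section of the ideal generated by `a`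
    have h2 : ssh h r hc.compat W.1 α ∈
        (gn (O := 𝔛.Osh h) (𝔞.map (sg h (fun n => r n ≫ q) w'))).sect (r 0 ⁻¹ᵁ W.1) := by
      refine map_le_gn _ _ ?_
      rw [map_sg_map_rs h hc.compat w' W.1, e', Ideal.map_span, Set.image_singleton]
      exact Ideal.mem_span_singleton_self _
    have h3 := rs_mem _ (inf_le_right : V ⊓ r 0 ⁻¹ᵁ W.1 ≤ r 0 ⁻¹ᵁ W.1) h2
    rw [hV _ inf_le_left] at h3
    obtain ⟨V₃, i, hxV₃, h4⟩ := mem_gn.1 h3 x ⟨hxV, hxW⟩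
    have hle : V₃ ≤ r 0 ⁻¹ᵁ W.1 := i.trans inf_le_right
    have e2 : (rs (𝔛.Osh h) hle).comp (rs (𝔛.Osh h) (le_top : r 0 ⁻¹ᵁ W.1 ≤ ⊤)) =
        rs (𝔛.Osh h) (le_top : V₃ ≤ ⊤) := by
      ext t
      exact rs_rs _ _ _
    rw [rs_rs, ← e2, ← Ideal.map_map, map_sg_map_rs h hc.compat w' W.1, Ideal.map_span, Set.image_singleton,
      Ideal.map_span, Set.image_singleton, Ideal.map_span, Set.image_singleton, ht, map_mul, map_mul,
      Ideal.mem_span_singleton] at h4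
    obtain ⟨c, hc4⟩ := h4
    have h5 : 1 - rs (𝔛.Osh h) hle (ssh h r hc.compat W.1 t) * c = 0 := by
      refine (hnzd.res hle).self _ ?_
      rw [sub_mul, one_mul, sub_eq_zero]
      refine hc4.trans ?_
      ring
    have h6 : IsUnit (rs (𝔛.Osh h) hle (ssh h r hc.compat W.1 t)) :=
      IsUnit.of_mul_eq_one _ (sub_eq_zero.1 h5).symm
    have h7 : IsUnit (pr 𝔛 h 0 V₃ (res 𝔛 h hle (ssh h r hc.compat W.1 t))) := h6.map (pr 𝔛 h 0 V₃)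
    rw [pr_res, pr_ssh] at h7
    have hx' : x ∈ 𝔛.lvU h 0 V₃ := by rw [lvU_zero]; exact hxV₃
    have hx'' : x ∈ 𝔛.lvU h 0 (r 0 ⁻¹ᵁ W.1) := by rw [lvU_zero]; exact hxW
    have h8 : x ∈ (𝔛.X 0).basicOpen (lssh h r hc.compat 0 W.1 t) := by
      rw [Scheme.mem_basicOpen _ _ _ hx'']
      have h9 := h7.map ((𝔛.X 0).presheaf.germ (𝔛.lvU h 0 V₃) x hx').hom
      have h10 : (𝔛.X 0).presheaf.germ (𝔛.lvU h 0 V₃) x hx' (lres 𝔛 h 0 hle (lssh h r hc.compat 0 W.1 t)) =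
          (𝔛.X 0).presheaf.germ _ x hx'' (lssh h r hc.compat 0 W.1 t) :=
        TopCat.Presheaf.germ_res_apply _ _ _ _ _
      rw [← h10]
      exact h9
    have h11 : x ∈ (𝔛.X 0).basicOpen ((r 0).appLE W.1 (𝔛.lvU h 0 (r 0 ⁻¹ᵁ W.1)) (lvU_p 𝔛 h r hc.compat 0 W.1).ge t) := h8
    rw [Scheme.basicOpen_appLE] at h11
    refine basicOpen_le_chartLocus 𝔞 q a W α t ?_ ht h11.2
    rw [← idealSpec_eq_idl, e]
  · intro hx
    obtain ⟨W, hxW, hW⟩ := (mem_chartLocus_iff 𝔞 q a (r 0 x)).1 hx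
    refine ⟨r 0 ⁻¹ᵁ W.1, hxW, fun V' i => gn_sect_eq i ?_⟩
    have e' : 𝔞.map (rho q W.1) = (Ideal.span {a}).map (rho q W.1) := by
      rw [← comap_idl, hW, Ideal.map_span, Set.image_singleton]
      rfl
    rw [map_sg_map_rs h hc.compat w' W.1, map_sg_map_rs h hc.compat w' W.1, e']

end K25.Locus
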