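import Groth.Agent.FBlow.K25.ChartAlg
import Groth.Agent.FBlow.K25.Locus

/-!
# The charts `Spf A_i` of an admissible formal blow-up
-/

set_option autoImplicit false

universe u

open CategoryTheory CategoryTheory.Limits TopologicalSpace Opposite AlgebraicGeometry

namespace K25.Charts

open FSch FBlow K788.Inv K788.SpfB K788.SysB K788.Osh K788.Restr K788.IdSh K788.GenL K788.Aff K788.AffSch K788.UP
  Groth.Agent.Divis.BlowChart Groth.Agent.Divis.BlowTwist

theorem ker_specMap_of_surjective {B C : Type u} [CommRing B] [CommRing C] (π : B →+* C) {J : Ideal B}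
    (h : RingHom.ker π = J) : (Spec.map (CommRingCat.ofHom π)).ker = idealSpec B J := by
  apply Scheme.IdealSheafData.ext_of_isAffine
  have h1 := Groth.Agent.Fcompl.H545.SpecKer.ideal_top_ker_specMap (CommRingCat.ofHom π)
  have h2 := Groth.Agent.Fcompl.H545.SpecKer.ideal_top_ker_specMap (CommRingCat.ofHom (Ideal.Quotient.mk J))
  rw [CommRingCat.hom_ofHom] at h1 h2
  rw [Ideal.mk_ker] at h2
  rw [h] at h1
  exact h1.trans h2.symm

/-- The affine square: `Spec (B/K^{n+1}B)` is the base change of `Spec B` to the `n`-th level of `Spf A`. -/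
theorem isPullback_of_surjective {A B C : Type u} [CommRing A] [CommRing B] [CommRing C] {K : Ideal A} (φ : A →+* B)
    (π : B →+* C) (hπ : Function.Surjective π) (n : ℕ) (hker : RingHom.ker π = (K ^ (n + 1)).map φ)
    (g : Spec (CommRingCat.of C) ⟶ (spf A K).X n)
    (hg : Spec.map (CommRingCat.ofHom π) ≫ Spec.map (CommRingCat.ofHom φ) = g ≫ spfToSpec A K n) :
    IsPullback (Spec.map (CommRingCat.ofHom π)) g (Spec.map (CommRingCat.ofHom φ)) (spfToSpec A K n) := by
  have h1 := (isCompl_spf A K).ci n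
  have h2 : IsClosedImmersion (Spec.map (CommRingCat.ofHom π)) := IsClosedImmersion.spec_of_surjective _ hπ
  refine isPullback_of_isClosedImmersion _ _ _ _ hg ?_
  rw [ker_specMap_of_surjective π hker, (isCompl_spf A K).ker, ← idealSpec_pow, Groth.Agent.S3873.result]

theorem mem_range_iff_of_isPullback {P X Y Z : Scheme.{u}} {fst : P ⟶ X} {snd : P ⟶ Y} {f : X ⟶ Z} {g : Y ⟶ Z}
    (h : IsPullback fst snd f g) (y : Y) : y ∈ Set.range snd ↔ g y ∈ Set.range f := by
  constructor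
  · rintro ⟨p, rfl⟩
    exact ⟨fst p, by rw [← Scheme.Hom.comp_apply, ← Scheme.Hom.comp_apply, h.w]⟩
  · rintro ⟨x, hx⟩
    obtain ⟨z, -, hz⟩ := Scheme.Pullback.exists_preimage_pullback x y hx
    refine ⟨h.isoPullback.inv z, ?_⟩
    rw [← Scheme.Hom.comp_apply, h.isoPullback_inv_snd, hz]

variable {A : Type u} [CommRing A] {K 𝔞 : Ideal A} {P : Scheme.{u}} {q : P ⟶ Spec (CommRingCat.of A)}

/-- The open immersion of the chart into the scheme-theoretic blow-up. -/
theorem exists_chart (hq : BlowUp.IsBlowUp q (idealSpec A 𝔞)) {a : A} (ha : a ∈ 𝔞) :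
    ∃ c : Spec (CommRingCat.of ↥(BlowUp.affineAlgebra A 𝔞 a)) ⟶ P, IsOpenImmersion c ∧
      c ≫ q = Spec.map (CommRingCat.ofHom (algebraMap A ↥(BlowUp.affineAlgebra A 𝔞 a))) ∧
      Set.range c = (chartLocus 𝔞 q a : Set P) := by
  rw [idealSpec_eq_idl] at hq
  obtain ⟨e, he⟩ := exists_iso 𝔞 q hq ha
  refine ⟨e.inv ≫ (chartLocus 𝔞 q a).ι, inferInstance, ?_, ?_⟩
  · rw [Category.assoc, ← he, Iso.inv_hom_id_assoc]
  · ext x
    constructor
    · rintro ⟨y, rfl⟩
      rw [Scheme.Hom.comp_apply]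
      exact (e.inv y).2
    · intro hx
      refine ⟨e.hom ⟨x, hx⟩, ?_⟩
      rw [Scheme.Hom.comp_apply, ← Scheme.Hom.comp_apply e.hom e.inv, Iso.hom_inv_id]
      rfl

/-- The formal chart: given an algebra `D` over `A` with a map `θ` from `A[𝔞/a]` which is an isomorphism modulo all
powers of `K`, the formal spectrum of `D` is an open subsystem of the formal blow-up, with image the chart locus. -/
theorem exists_formal_chart {𝔛' : FSch.Sys.{u}} (b : 𝔛' ⟶ spf A K)
    (hq : BlowUp.IsBlowUp q (idealSpec A 𝔞)) {r : ∀ n, 𝔛'.X n ⟶ P} (hr : ∀ n, 𝔛'.ι n ≫ r (n + 1) = r n)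
    (hpb : ∀ n, IsPullback (r n) ((b : Hom 𝔛' (spf A K)).app n) q (spfToSpec A K n)) {a : A} (ha : a ∈ 𝔞)
    {D : Type u} [CommRing D] (φ : A →+* D) (θ : BlowUp.affineAlgebra A 𝔞 a →+* D)
    (hθ : θ.comp (algebraMap A _) = φ) {L : Ideal D} (hL : K.map φ = L)
    (hdense : ∀ (n : ℕ) (x : D), ∃ y, x - θ y ∈ L ^ n)
    (hinj : ∀ (n : ℕ) y, θ y ∈ L ^ n → y ∈ (K ^ n).map (algebraMap A (BlowUp.affineAlgebra A 𝔞 a)))
    (hle : K ≤ L.comap φ) :
    ∃ u : spf D L ⟶ 𝔛', u ≫ b = spfMap L K φ hle ∧ OpenImm u ∧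
      ∀ x : 𝔛'.X 0, x ∈ Set.range ((u : Hom (spf D L) 𝔛').app 0) ↔ r 0 x ∈ chartLocus 𝔞 q a := by
  obtain ⟨c, hc, hcq, hcr⟩ := exists_chart hq ha
  have hφ : Spec.map (CommRingCat.ofHom θ) ≫ Spec.map (CommRingCat.ofHom (algebraMap A _)) =
      Spec.map (CommRingCat.ofHom φ) := by
    rw [← Spec.map_comp, ← CommRingCat.ofHom_comp, hθ]
  have hw : ∀ n, (spfToSpec D L n ≫ Spec.map (CommRingCat.ofHom θ) ≫ c) ≫ q =
      ((spfMap L K φ hle : Hom (spf D L) (spf A K)).app n) ≫ spfToSpec A K n := by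
    intro n
    rw [Category.assoc, Category.assoc, hcq, hφ]
    exact (isPullback_spf hle hL n).w
  let u : spf D L ⟶ 𝔛' := ⟨fun n => (hpb n).lift _ _ (hw n), fun n => by
    apply (hpb (n + 1)).hom_ext
    · rw [Category.assoc, hr, IsPullback.lift_fst, Category.assoc, IsPullback.lift_fst,
        ← Category.assoc ((spf D L).ι n), spfToSpec_comm]
    · rw [Category.assoc, ← (b : Hom 𝔛' (spf A K)).comm n, IsPullback.lift_snd_assoc, Category.assoc,
        IsPullback.lift_snd]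
      exact (spfMap L K φ hle : Hom (spf D L) (spf A K)).comm n⟩
  have hu1 : ∀ n, (u : Hom (spf D L) 𝔛').app n ≫ r n = spfToSpec D L n ≫ Spec.map (CommRingCat.ofHom θ) ≫ c :=
    fun n => IsPullback.lift_fst _ _ _ _
  have hu2 : ∀ n, (u : Hom (spf D L) 𝔛').app n ≫ (b : Hom 𝔛' (spf A K)).app n =
      (spfMap L K φ hle : Hom (spf D L) (spf A K)).app n := fun n => IsPullback.lift_snd _ _ _ _
  -- the squares over the charts
  have hsq : ∀ n, IsPullback (spfToSpec D L n ≫ Spec.map (CommRingCat.ofHom θ)) ((u : Hom (spf D L) 𝔛').app n) c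
      (r n) := by
    intro n
    refine IsPullback.of_bot (h₂₁ := r n) (v₂₁ := (b : Hom 𝔛' (spf A K)).app n) (v₂₂ := q) (h₃₁ := spfToSpec A K n)
      ?_ ?_ (hpb n)
    · rw [hu2, hcq]
      have e1 : spfToSpec D L n ≫ Spec.map (CommRingCat.ofHom θ) =
          Spec.map (CommRingCat.ofHom ((Ideal.Quotient.mk (L ^ (n + 1))).comp θ)) := by
        rw [CommRingCat.ofHom_comp, Spec.map_comp]
        rfl
      rw [e1]
      refine isPullback_of_surjective (algebraMap A _) ((Ideal.Quotient.mk (L ^ (n + 1))).comp θ) ?_ n ?_ _ ?_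
      · intro x
        obtain ⟨x, rfl⟩ := Ideal.Quotient.mk_surjective x
        obtain ⟨y, hy⟩ := hdense (n + 1) x
        exact ⟨y, ((Ideal.Quotient.mk_eq_mk_iff_sub_mem _ _).2 hy).symm⟩
      · ext y
        rw [RingHom.mem_ker, RingHom.comp_apply, Ideal.Quotient.eq_zero_iff_mem]
        refine ⟨hinj (n + 1) y, fun hy => ?_⟩
        have h1 := Ideal.mem_map_of_mem θ hy
        rw [Ideal.map_map, hθ, Ideal.map_pow, hL] at h1
        exact h1
      · have e2 : (spfToSpec D L n ≫ Spec.map (CommRingCat.ofHom θ)) ≫ Spec.map (CommRingCat.ofHom (algebraMap A _)) =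
            spfToSpec D L n ≫ Spec.map (CommRingCat.ofHom φ) := by rw [Category.assoc, hφ]
        exact (congrArg (fun t => t ≫ Spec.map (CommRingCat.ofHom (algebraMap A _))) e1).symm.trans
          (e2.trans (isPullback_spf hle hL n).w)
    · rw [Category.assoc, hu1]
  refine ⟨u, ?_, fun n => ?_, fun x => ?_⟩
  · apply Hom.ext
    funext n
    exact hu2 n
  · exact MorphismProperty.of_isPullback (P := @IsOpenImmersion) (hsq n) hc
  · rw [mem_range_iff_of_isPullback (hsq 0), hcr]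
    rfl

end K25.Charts
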