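import Groth.Agent.FBlow.K25.Charts

/-!
# Charts of a formal blow-up, complements: the chart loci of generators cover
-/

set_option autoImplicit false

universe u

open CategoryTheory CategoryTheory.Limits TopologicalSpace Opposite AlgebraicGeometry

namespace K25.ChartsB

open FSch FBlow K788.Inv K788.SpfB K788.SysB K788.Osh K788.Restr
  Groth.Agent.Divis.BlowChart Groth.Agent.Divis.BlowTwist

variable {A : Type u} [CommRing A] {K 𝔞 : Ideal A} {P : Scheme.{u}} {q : P ⟶ Spec (CommRingCat.of A)}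

theorem isCompl_of_isPullback {𝔛' : FSch.Sys.{u}} (b : 𝔛' ⟶ spf A K) {r : ∀ n, 𝔛'.X n ⟶ P}
    (hr : ∀ n, 𝔛'.ι n ≫ r (n + 1) = r n)
    (hpb : ∀ n, IsPullback (r n) ((b : Hom 𝔛' (spf A K)).app n) q (spfToSpec A K n)) :
    IsCompl r ((idealSpec A K).comap q) := by
  have hp := isCompl_spf A K
  refine ⟨hr, fun n => ?_, fun n => ?_⟩
  · have := hp.ci n
    exact MorphismProperty.of_isPullback (P := @IsClosedImmersion) (hpb n).flip this
  · have := hp.ci n
    rw [ker_of_isPullback (hpb n), hp.ker, Groth.Agent.Divis.IdealComap.comap_pow]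

/-- The chart loci of a family of generators cover the blow-up. -/
theorem exists_mem_chartLocus (hq : BlowUp.IsBlowUp q (idealSpec A 𝔞)) {ι : Type*} (f : ι → A)
    (h𝔞 : 𝔞 = Ideal.span (Set.range f)) (x : P) : ∃ i, x ∈ chartLocus 𝔞 q (f i) := by
  obtain ⟨W, hxW, α, hα, e⟩ := hq.1 x
  have e' : 𝔞.map (rho q W.1) = Ideal.span {α} := by
    rw [← comap_idl, ← idealSpec_eq_idl, e]
  have h1 : ∀ i, ∃ t, rho q W.1 (f i) = α * t := by
    intro i
    have : rho q W.1 (f i) ∈ Ideal.span {α} := by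
      rw [← e', h𝔞]
      exact Ideal.mem_map_of_mem _ (Ideal.subset_span ⟨i, rfl⟩)
    exact Ideal.mem_span_singleton.1 this
  choose t ht using h1
  by_contra hcon
  push Not at hcon
  let 𝔭 : Ideal Γ(P, W.1) :=
    (IsLocalRing.maximalIdeal (P.presheaf.stalk x)).comap (P.presheaf.germ W.1 x hxW).hom
  have hP : ∀ h : Γ(P, W.1), h ∉ 𝔭 ↔ x ∈ P.basicOpen h := by
    intro h
    rw [Scheme.mem_basicOpen _ _ _ hxW, Ideal.mem_comap, IsLocalRing.mem_maximalIdeal, mem_nonunits_iff,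
      not_not]
  have h2 : ∀ i, t i ∈ 𝔭 := by
    intro i
    by_contra hi
    rw [hP] at hi
    refine hcon i (basicOpen_le_chartLocus 𝔞 q (f i) W α (t i) ?_ (ht i) hi)
    rw [← idealSpec_eq_idl, e]
  have h3 : 𝔞.map (rho q W.1) ≤ Ideal.span {α} * 𝔭 := by
    rw [h𝔞, Ideal.map_span, Ideal.span_le]
    rintro _ ⟨_, ⟨i, rfl⟩, rfl⟩
    rw [SetLike.mem_coe, Ideal.mem_span_singleton_mul]
    exact ⟨t i, h2 i, (ht i).symm⟩
  have h4 := h3 (e'.ge (Ideal.mem_span_singleton_self α))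
  rw [Ideal.mem_span_singleton_mul] at h4
  obtain ⟨z, hz, hz'⟩ := h4
  have h5 : z = 1 := by
    have : α * z = α * 1 := by rw [hz', mul_one]
    exact (mul_cancel_left_mem_nonZeroDivisors hα).1 this
  rw [h5] at hz
  refine ((hP 1).2 ?_) hz
  rw [Scheme.basicOpen_one]
  exact hxW

end K25.ChartsB
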