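import Groth.Agent.FBlow.K788.Hyp
import Groth.Agent.S1680
import Groth.Agent.S3873

/-!
# Flat base change of admissible blow-ups
-/

set_option autoImplicit false

universe u

open CategoryTheory CategoryTheory.Limits TopologicalSpace Opposite AlgebraicGeometry

namespace K25.FlatBC

open FSch FBlow K788.Osh K788.IdSh K788.GenL K788.SysB K788.IdMap K788.Restr K788.Aff K788.AffSch K788.UP K788.Inv K788.SpfB
open K788.AffStr K788.Crt K788.AffV K788.CohL K788.ARed K788.LocB K788.LocC K788.Glob K788.Hyp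
open Groth.Agent.Divis.BlowChart Groth.Agent.Fcompl.H552.IdealSpec Groth.Agent.Divis.BlowTwist

variable {𝔛 𝔛' 𝔜 ℨ 𝔘 𝔚 : FSch.Sys.{u}} {R : Type u} [CommRing R] {I : Ideal R}

/-- Flatness of the ring map on global sections of charts. -/
theorem flat_gsMap (h : 𝔛.IsFormal) (hY : 𝔜.IsFormal) (φ : 𝔜 ⟶ 𝔛)
    (hflat : ∀ (U : (𝔛.X 0).affineOpens) (U' : (𝔜.X 0).affineOpens)
      (e : U'.1 ≤ ((φ : FSch.Hom 𝔜 𝔛).app 0) ⁻¹ᵁ U.1),
      RingHom.Flat (((𝔜.Osh hY).obj.map (homOfLE e).op).hom.comp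
        ((FSch.Hom.sharp φ hY h).hom.app (Opposite.op U.1)).hom))
    (hU : 𝔘.IsFormal) (hW : 𝔚.IsFormal) [IsAffine (𝔘.X 0)] [IsAffine (𝔚.X 0)]
    {j : 𝔘 ⟶ 𝔛} (hj : OpenImm j) {i : 𝔚 ⟶ 𝔜} (hi : OpenImm i) (k : 𝔚 ⟶ 𝔘) (e : k ≫ j = i ≫ φ) :
    RingHom.Flat (gsMap hW hU k) := by
  have := hj 0
  have := hi 0
  have h1 : IsAffineOpen (rg j hj) := isAffineOpen_opensRange _
  have h2 : IsAffineOpen (rg i hi) := isAffineOpen_opensRange _
  have he : rg i hi ≤ ((φ : FSch.Hom 𝔜 𝔛).app 0) ⁻¹ᵁ rg j hj := by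
    rintro _ ⟨z, rfl⟩
    refine ⟨((k : Hom 𝔚 𝔘).app 0) z, ?_⟩
    have e1 : (k : Hom 𝔚 𝔘).app 0 ≫ (j : Hom 𝔘 𝔛).app 0 = (i : Hom 𝔚 𝔜).app 0 ≫ (φ : Hom 𝔜 𝔛).app 0 :=
      congrArg (fun t : Hom _ _ => t.app 0) e
    rw [← Scheme.Hom.comp_apply, ← Scheme.Hom.comp_apply, e1]
  have h3 := hflat ⟨_, h1⟩ ⟨_, h2⟩ he
  -- the two restriction isomorphisms
  let a : Sec 𝔛 h (rg j hj) →+* GS hU := (rs (𝔘.Osh hU) (pre_rg j hj)).comp (sh hU j h (rg j hj))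
  let c : Sec 𝔜 hY (rg i hi) →+* GS hW := (rs (𝔚.Osh hW) (pre_rg i hi)).comp (sh hW i hY (rg i hi))
  have rs_bij : ∀ {𝔙 : FSch.Sys.{u}} (hV : 𝔙.IsFormal) {U : (𝔙.X 0).Opens} (hU' : (⊤ : (𝔙.X 0).Opens) ≤ U),
      Function.Bijective (rs (𝔙.Osh hV) hU') := by
    intro 𝔙 hV U hU'
    obtain rfl : U = ⊤ := top_le_iff.1 hU'
    have : rs (𝔙.Osh hV) hU' = RingHom.id _ := by
      ext s
      exact rs_self _ _
    rw [this]
    exact Function.bijective_id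
  have ha : Function.Bijective a := (rs_bij hU (pre_rg j hj)).comp (sh_bijective hU h hj le_rfl)
  have hc : Function.Bijective c := (rs_bij hW (pre_rg i hi)).comp (sh_bijective hW hY hi le_rfl)
  have key : (gsMap hW hU k).comp a = c.comp ((rs (𝔜.Osh hY) he).comp (sh hY φ h (rg j hj))) := by
    ext s
    change gsMap hW hU k (rs (𝔘.Osh hU) (pre_rg j hj) (sh hU j h (rg j hj) s)) =
      rs (𝔚.Osh hW) (pre_rg i hi) (sh hW i hY (rg i hi) (rs (𝔜.Osh hY) he (sh hY φ h (rg j hj) s)))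
    have e1 := sh_res hW k hU (pre_rg j hj) (sh hU j h (rg j hj) s)
    have e2 := sh_res hW i hY he (sh hY φ h (rg j hj) s)
    have e3 := sh_comp hW hU h k j (rg j hj) s
    have e4 := sh_comp hW hY h i φ (rg j hj) s
    have gen : ∀ {f f' : 𝔚 ⟶ 𝔛} (_ : f = f') (t : (⊤ : (𝔚.X 0).Opens) ≤ pre f (rg j hj)) (t' : (⊤ : (𝔚.X 0).Opens) ≤ pre f' (rg j hj)),
        rs (𝔚.Osh hW) t (sh hW f h (rg j hj) s) = rs (𝔚.Osh hW) t' (sh hW f' h (rg j hj) s) := by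
      rintro f f' rfl t t'
      rfl
    have t1 : (⊤ : (𝔚.X 0).Opens) ≤ pre (k ≫ j) (rg j hj) := fun z hz => ⟨_, rfl⟩
    have t2 : (⊤ : (𝔚.X 0).Opens) ≤ pre (i ≫ φ) (rg j hj) := e ▸ t1
    refine e1.trans (Eq.trans ?_ ((congrArg (rs (𝔚.Osh hW) (pre_rg i hi)) e2).trans (rs_rs _ _ _)).symm)
    rw [← e3, ← e4]
    exact gen e t1 t2
  have h4 : gsMap hW hU k = (RingEquiv.ofBijective c hc).toRingHom.comp
      (((rs (𝔜.Osh hY) he).comp (sh hY φ h (rg j hj))).comp (RingEquiv.ofBijective a ha).symm.toRingHom) := by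
    ext s
    obtain ⟨s, rfl⟩ := ha.2 s
    have e1 := congrArg (fun f : _ →+* _ => f s) key
    have e2 : (RingEquiv.ofBijective a ha).symm (a s) = s := (RingEquiv.ofBijective a ha).symm_apply_apply s
    refine e1.trans ?_
    change _ = c (((rs (𝔜.Osh hY) he).comp (sh hY φ h (rg j hj))) ((RingEquiv.ofBijective a ha).symm (a s)))
    rw [e2]
    rfl
  rw [h4]
  exact (((RingHom.Flat.of_bijective (RingEquiv.ofBijective a ha).symm.bijective)).comp h3).comp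
    (RingHom.Flat.of_bijective (RingEquiv.ofBijective c hc).bijective)

theorem comap_idealSpec {A B : Type u} [CommRing A] [CommRing B] (f : A →+* B) (𝔟 : Ideal A) :
    (idealSpec A 𝔟).comap (Spec.map (CommRingCat.ofHom f)) = idealSpec B (𝔟.map f) :=
  Groth.Agent.S3873.result B A f 𝔟

/-- Flat base change of admissible blow-ups, affine case. -/
theorem isAdmBlowUp_flat_aff (hU : 𝔘.IsFormal) (hW : 𝔚.IsFormal) [IsAffine (𝔘.X 0)] [IsAffine (𝔚.X 0)]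
    (hI : I.FG) {w : ∀ n, 𝔘.X n ⟶ Spec (CommRingCat.of R)} (hwU : AdicOver 𝔘 I w) (hLU : LG hU I w hwU.compat)
    (k : 𝔚 ⟶ 𝔘) (hk : IsAdicHom k)
    (hLW : LG hW I (fun n => (k : Hom 𝔚 𝔘).app n ≫ w n) (hwU.comp hU hk).compat)
    (hfl : RingHom.Flat (gsMap hW hU k)) {𝔟 : Ideal (GS hU)} {m : ℕ}
    (hm : (I.map (sg hU w hwU.compat)) ^ m ≤ 𝔟) {𝔘' 𝔚' : FSch.Sys.{u}} (hU' : 𝔘'.IsFormal) (hW' : 𝔚'.IsFormal)
    {b : 𝔘' ⟶ 𝔘} {b' : 𝔚' ⟶ 𝔚} {k' : 𝔚' ⟶ 𝔘'} (hC : Cart k' b' b k)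
    (hb : IsAdmBlowUp b hU' hU (gn (O := 𝔘.Osh hU) 𝔟)) :
    IsAdmBlowUp b' hW' hW (idealMap k hW hU (gn (O := 𝔘.Osh hU) 𝔟)) := by
  obtain ⟨P, q, r, hq, hr, hpb⟩ := exists_structure hU hI hwU hLU hm hb
  rw [idealMap_gn]
  let g : Spec (CommRingCat.of (GS hW)) ⟶ Spec (CommRingCat.of (GS hU)) :=
    Spec.map (CommRingCat.ofHom (gsMap hW hU k))
  have hg : Flat g := by
    rw [Flat.SpecMap_iff]
    exact hfl
  have hq' := Groth.Agent.S1680.result g (idealSpec (GS hU) 𝔟) q hq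
  rw [comap_idealSpec] at hq'
  have hm' : (I.map (sg hW (fun n => (k : Hom 𝔚 𝔘).app n ≫ w n) (hwU.comp hU hk).compat)) ^ m ≤
      𝔟.map (gsMap hW hU k) := by
    have h1 := Ideal.map_mono (f := gsMap hW hU k) hm
    rw [Ideal.map_pow, Ideal.map_map] at h1
    rw [sg_comp hW hU k w hwU.compat _ _ fun _ => rfl]
    exact h1
  have hsq : ∀ n, IsPullback ((k' : Hom 𝔚' 𝔘').app n ≫ r n) ((b' : Hom 𝔚' 𝔚).app n) q (kap hW n ≫ g) := by
    intro n
    have h1 := (hC n).paste_horiz (hpb n)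
    rw [← kap_gsMap hW hU k n] at h1
    exact h1
  have hsnd : IsPullback (pullback.snd g q) (pullback.fst g q) q g := (IsPullback.of_hasPullback g q).flip
  let r' : ∀ n, 𝔚'.X n ⟶ pullback g q := fun n =>
    pullback.lift ((b' : Hom 𝔚' 𝔚).app n ≫ kap hW n) ((k' : Hom 𝔚' 𝔘').app n ≫ r n)
      (by rw [Category.assoc]; exact (hsq n).w.symm)
  have hr1 : ∀ n, r' n ≫ pullback.fst g q = (b' : Hom 𝔚' 𝔚).app n ≫ kap hW n := fun n => pullback.lift_fst _ _ _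
  have hr2 : ∀ n, r' n ≫ pullback.snd g q = (k' : Hom 𝔚' 𝔘').app n ≫ r n := fun n => pullback.lift_snd _ _ _
  have hr' : ∀ n, 𝔚'.ι n ≫ r' (n + 1) = r' n := by
    intro n
    apply pullback.hom_ext
    · rw [Category.assoc, hr1, hr1, ← Category.assoc, ← (b' : Hom 𝔚' 𝔚).comm n, Category.assoc, ι_kap]
    · rw [Category.assoc, hr2, hr2, ← Category.assoc, ← (k' : Hom 𝔚' 𝔘').comm n, Category.assoc, hr]
  have hpb' : ∀ n, IsPullback (r' n) ((b' : Hom 𝔚' 𝔚).app n) (pullback.fst g q) (kap hW n) := by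
    intro n
    have h1 := hsq n
    rw [← hr2] at h1
    exact IsPullback.of_right h1 (hr1 n) hsnd
  exact isAdmBlowUp_aff hW hI (hwU.comp hU hk) hLW hm' hq' hW' b' hr' hpb'

/-- Flat base change of admissible blow-ups. -/
theorem isAdmBlowUp_pullbackSnd (hI : I.FG) {h : 𝔛.IsFormal} {w : ∀ n, 𝔛.X n ⟶ Spec (CommRingCat.of R)}
    {hw : AdicOver 𝔛 I w} (hL : LG h I w hw.compat) (hY : 𝔜.IsFormal) (φ : 𝔜 ⟶ 𝔛) (hφ : IsAdicHom φ)
    (hLY : LG hY I (fun n => (φ : Hom 𝔜 𝔛).app n ≫ w n) (hw.comp h hφ).compat)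
    (hflat : ∀ (U : (𝔛.X 0).affineOpens) (U' : (𝔜.X 0).affineOpens)
      (e : U'.1 ≤ ((φ : FSch.Hom 𝔜 𝔛).app 0) ⁻¹ᵁ U.1),
      RingHom.Flat (((𝔜.Osh hY).obj.map (homOfLE e).op).hom.comp
        ((FSch.Hom.sharp φ hY h).hom.app (Opposite.op U.1)).hom))
    {J : IdealSh (𝔛.Osh h)} (hJ : LGn h hw J) {h' : 𝔛'.IsFormal} {b : 𝔛' ⟶ 𝔛} (hb : IsAdmBlowUp b h' h J)
    (hP : (pullbackSys b φ).IsFormal) : IsAdmBlowUp (pullbackSnd b φ) hP hY (idealMap φ hY h J) := by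
  refine isAdmBlowUp_of_cover fun y => ?_
  obtain ⟨C, hC, -⟩ := hJ (((φ : Hom 𝔜 𝔛).app 0) y) ⊤ trivial
  obtain ⟨V, hV, hyV, hle⟩ := exists_affine_nhd y (pre φ (rg C.j C.hj)) hC
  have hW := isFormal_restrictOpen hY V
  have hi : OpenImm (𝔜.restrictOpenι hY V) := openImm_restrictOpenι hY V
  have hrg : rg (𝔜.restrictOpenι hY V) hi = V := rg_restrictOpenι hY V
  have aW := isAffine_restrictOpen hY hV
  have aU := C.aff
  obtain ⟨k, hk⟩ := C.hj.exists_lift hW (𝔜.restrictOpenι hY V ≫ φ) fun z =>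
    hle (hrg.le ⟨z, rfl⟩)
  have hka : IsAdicHom k := isAdicHom_of_comp (C.hj.isAdicHom C.hs h)
    (by rw [hk]; exact isAdicHom_comp (hi.isAdicHom hW hY) hφ)
  -- the restriction of `b` to the chart
  have hcU := cart_pullback b C.j
  have hU' : (pullbackSys b C.j).IsFormal := isFormal_of_isAdicHom (isAdicHom_pullbackFst b (C.hj.isAdicHom C.hs h)) h'
  have hbU := IsAdmBlowUp.restrict hb hcU C.hj hU' C.hs
  -- the restriction of the base change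
  have hcW := cart_pullback (pullbackSnd b φ) (𝔜.restrictOpenι hY V)
  have hW' : (pullbackSys (pullbackSnd b φ) (𝔜.restrictOpenι hY V)).IsFormal :=
    isFormal_of_isAdicHom (isAdicHom_pullbackFst _ (hi.isAdicHom hW hY)) hP
  -- the square between them
  have hbig : Cart (pullbackFst (pullbackSnd b φ) (𝔜.restrictOpenι hY V) ≫ pullbackFst b φ)
      (pullbackSnd (pullbackSnd b φ) (𝔜.restrictOpenι hY V)) b (𝔜.restrictOpenι hY V ≫ φ) := fun n =>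
    (hcW n).paste_horiz (cart_pullback b φ n)
  obtain ⟨l, hl, hl'⟩ := hcU.exists_lift (pullbackFst (pullbackSnd b φ) (𝔜.restrictOpenι hY V) ≫ pullbackFst b φ)
    (pullbackSnd (pullbackSnd b φ) (𝔜.restrictOpenι hY V) ≫ k) (by rw [hbig.w, Category.assoc, hk])
  have hcart : Cart l (pullbackSnd (pullbackSnd b φ) (𝔜.restrictOpenι hY V)) (pullbackSnd b C.j) k := by
    intro n
    have h1 := hbig n
    have h2 : ((pullbackFst (pullbackSnd b φ) (𝔜.restrictOpenι hY V) ≫ pullbackFst b φ : _ ⟶ _) : Hom _ _).app n =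
      (l : Hom _ _).app n ≫ (pullbackFst b C.j : Hom _ _).app n := (congrArg (fun t : Hom _ _ => t.app n) hl).symm
    have h3 : ((𝔜.restrictOpenι hY V ≫ φ : _ ⟶ _) : Hom _ _).app n =
      (k : Hom _ _).app n ≫ (C.j : Hom _ _).app n := (congrArg (fun t : Hom _ _ => t.app n) hk).symm
    rw [h2, h3] at h1
    exact IsPullback.of_right h1 (congrArg (fun t : Hom _ _ => t.app n) hl') (hcU n)
  refine ⟨_, _, hW, hW', 𝔜.restrictOpenι hY V, hi, pullbackFst _ _, pullbackSnd _ _, hrg.ge hyV, hcW, ?_⟩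
  have hJe : idealMap (𝔜.restrictOpenι hY V) hW hY (idealMap φ hY h J) =
      idealMap k hW C.hs (gn (O := C.sys.Osh C.hs) C.𝔟) := by
    rw [← idealMap_comp, ← hk, idealMap_comp hW C.hs h, C.e]
  rw [hJe]
  rw [C.e] at hbU
  have hLU : LG C.hs I (fun n => (C.j : Hom C.sys 𝔛).app n ≫ w n) (hw.comp h (C.hj.isAdicHom C.hs h)).compat :=
    hL.restrict C.hs C.hj _
  have hLW : LG hW I (fun n => (k : Hom _ C.sys).app n ≫ (C.j : Hom C.sys 𝔛).app n ≫ w n)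
      ((hw.comp h (C.hj.isAdicHom C.hs h)).comp C.hs hka).compat := by
    have h1 := hLY.restrict hW hi ((hw.comp h hφ).comp hY (hi.isAdicHom hW hY)).compat
    have h2 : (fun n => ((𝔜.restrictOpenι hY V : _ ⟶ _) : Hom _ _).app n ≫ (φ : Hom 𝔜 𝔛).app n ≫ w n) =
        (fun n => (k : Hom _ C.sys).app n ≫ (C.j : Hom C.sys 𝔛).app n ≫ w n) := by
      funext n
      have h3 : (k : Hom _ _).app n ≫ (C.j : Hom _ _).app n =
        (𝔜.restrictOpenι hY V : Hom _ _).app n ≫ (φ : Hom 𝔜 𝔛).app n := (congrArg (fun t : Hom _ _ => t.app n) hk)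
      rw [← Category.assoc, ← Category.assoc, h3]
    convert h1 using 1
    exact h2.symm
  exact isAdmBlowUp_flat_aff C.hs hW hI (hw.comp h (C.hj.isAdicHom C.hs h)) hLU k hka hLW
    (flat_gsMap h hY φ hflat C.hs hW C.hj hi k hk) C.hk hU' hW' hcart hbU

end K25.FlatBC
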