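import Groth.Agent.FBlow.K25.NoTors
import Groth.Agent.S11525
import Groth.Agent.S11530
import Groth.Agent.AdicRing.K26.CLocQ

/-!
# The levels of a system without torsion and of finite type are of finite presentation
-/

set_option autoImplicit false

universe u

open CategoryTheory CategoryTheory.Limits TopologicalSpace Opposite AlgebraicGeometry

namespace K25.Lfp

open FSch FBlow K788.Osh K788.IdSh K788.GenL K788.SysB K788.IdMap K788.Restr K788.Aff K788.AffSch K788.UP K788.Inv K788.SpfB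
open K788.AffStr K788.Crt K788.AffV K788.CohL K788.ARed K788.LocB K788.LocC K788.Glob K788.Hyp
open Groth.Agent.Divis.BlowChart Groth.Agent.Fcompl.H552.IdealSpec Groth.Agent.Divis.BlowTwist

variable {𝔛 𝔛' 𝔜 ℨ 𝔘 𝔚 : FSch.Sys.{u}} {R : Type u} [CommRing R] {I : Ideal R}

theorem noPowTorsion_of_noTorsion {A : Type u} [CommRing A] [Algebra R A]
    (hT : ∀ x : A, (∀ i ∈ I, algebraMap R A i * x = 0) → x = 0) : AdicRing.NoPowTorsion I A := by
  intro x n
  induction n generalizing x with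
  | zero =>
    intro hx
    rw [← one_smul R x]
    exact hx 1 (by rw [pow_zero, Ideal.one_eq_top]; exact Submodule.mem_top)
  | succ n ih =>
    intro hx
    refine hT x fun i hi => ih _ fun a ha => ?_
    have h1 := hx (a * i) (by rw [pow_succ]; exact Ideal.mul_mem_mul ha hi)
    rw [← Algebra.smul_def, smul_smul]
    exact h1

/-- Algebraic form. -/
theorem finitePresentation_trunc (hR : AdicRing.IsBase R I) {A : Type u} [CommRing A] [Algebra R A]
    [IsAdicComplete (I.map (algebraMap R A)) A] (hft : Algebra.FiniteType R (A ⧸ I.map (algebraMap R A)))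
    (hT : ∀ x : A, (∀ i ∈ I, algebraMap R A i * x = 0) → x = 0) (n : ℕ) :
    (Ideal.quotientMap ((I ^ (n + 1)).map (algebraMap R A)) (algebraMap R A)
        Ideal.le_comap_map).FinitePresentation := by
  have h1 : AdicRing.TopFiniteType R I A := (K26.CLocQ.topFiniteType_iff R I (fg_of_isBase hR) A).2 hft
  have h2 := Groth.Agent.S11525.result R I hR A h1 (noPowTorsion_of_noTorsion hT)
  exact (Groth.Agent.S11530.result R I hR A).1 h2 n

theorem glob_spfToSpec (n : ℕ) {Y : Scheme.{u}} (g : Y ⟶ (spf R I).X n) :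
    glob (g ≫ spfToSpec R I n) = (glob (A := R ⧸ I ^ (n + 1)) g).comp (Ideal.Quotient.mk (I ^ (n + 1))) :=
  glob_map _ _

section Affine

variable (h : 𝔛.IsFormal) [IsAffine (𝔛.X 0)] {p : 𝔛 ⟶ spf R I} (hp : IsAdicHom p)

/-- The structure map of the level `n`, compared with the truncation of the ring of global sections. -/
theorem exists_equiv (hI : I.FG) (n : ℕ) (alg : Algebra R (GS h))
    (halg : algebraMap R (GS h) = sg h (fun n => (p : Hom 𝔛 (spf R I)).app n ≫ spfToSpec R I n) (adicOver_of_isAdicHom hp).compat) :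
    ∃ e : (GS h ⧸ (I ^ (n + 1)).map (algebraMap R (GS h))) ≃+* Γ(𝔛.X n, ⊤),
      glob (A := R ⧸ I ^ (n + 1)) ((p : Hom 𝔛 (spf R I)).app n) = e.toRingHom.comp
        (Ideal.quotientMap ((I ^ (n + 1)).map (algebraMap R (GS h))) (algebraMap R (GS h)) Ideal.le_comap_map) := by
  obtain ⟨-, h2⟩ := main h hI (adicOver_of_isAdicHom hp)
  have h3 : (I ^ (n + 1)).map (algebraMap R (GS h)) = RingHom.ker (prT h n) := by
    rw [(h2 n).2, Ideal.map_pow, halg]
  refine ⟨(Ideal.quotEquivOfEq h3).trans (RingHom.quotientKerEquivOfSurjective (h2 n).1), ?_⟩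
  apply Ideal.Quotient.ringHom_ext
  rw [← glob_spfToSpec]
  ext i
  have h4 := prT_sg h (fun n => (p : Hom 𝔛 (spf R I)).app n ≫ spfToSpec R I n) (adicOver_of_isAdicHom hp).compat n i
  refine h4.symm.trans ?_
  exact congrArg (fun f : R →+* GS h => prT h n (f i)) halg.symm

include hp in
/-- The affine case. -/
theorem lfp_affine (hR : AdicRing.IsBase R I) (hft : LocallyOfFiniteType ((p : Hom 𝔛 (spf R I)).app 0))
    (hT : ∀ x : GS h, (∀ i ∈ I, sg h (fun n => (p : Hom 𝔛 (spf R I)).app n ≫ spfToSpec R I n) (adicOver_of_isAdicHom hp).compat i * x = 0) → x = 0) (n : ℕ) :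
    LocallyOfFinitePresentation ((p : Hom 𝔛 (spf R I)).app n) := by
  have hI := fg_of_isBase hR
  let alg : Algebra R (GS h) := (sg h (fun n => (p : Hom 𝔛 (spf R I)).app n ≫ spfToSpec R I n) (adicOver_of_isAdicHom hp).compat).toAlgebra
  have halg : algebraMap R (GS h) = sg h (fun n => (p : Hom 𝔛 (spf R I)).app n ≫ spfToSpec R I n) (adicOver_of_isAdicHom hp).compat := rfl
  have hcomp : IsAdicComplete (I.map (algebraMap R (GS h))) (GS h) := (main h hI (adicOver_of_isAdicHom hp)).1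
  have haff : ∀ n, IsAffine (𝔛.X n) := isAffine_X h
  have hfac : ∀ n, (p : Hom 𝔛 (spf R I)).app n = (𝔛.X n).toSpecΓ ≫
    Spec.map (CommRingCat.ofHom (glob (A := R ⧸ I ^ (n + 1)) ((p : Hom 𝔛 (spf R I)).app n))) := fun n =>
    (toSpecΓ_map_glob _).symm
  have h0 : Algebra.FiniteType R (GS h ⧸ I.map (algebraMap R (GS h))) := by
    obtain ⟨e, he⟩ := exists_equiv h hp hI 0 alg halg
    rw [hfac] at hft
    have h1 : LocallyOfFiniteType (Spec.map (CommRingCat.ofHom (glob (A := R ⧸ I ^ (0 + 1)) ((p : Hom 𝔛 (spf R I)).app 0)))) := by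
      have := (MorphismProperty.cancel_left_of_respectsIso @LocallyOfFiniteType _ _).1 hft
      exact this
    have h2 := HasRingHomProperty.Spec_iff.mp h1
    rw [CommRingCat.hom_ofHom, he] at h2
    have h3 : (Ideal.quotientMap ((I ^ (0 + 1)).map (algebraMap R (GS h))) (algebraMap R (GS h))
        Ideal.le_comap_map).FiniteType := by
      have h4 := h2.comp_surjective (g := e.symm.toRingHom) e.symm.surjective
      have h5 : e.symm.toRingHom.comp (e.toRingHom.comp (Ideal.quotientMap ((I ^ (0 + 1)).map (algebraMap R (GS h)))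
        (algebraMap R (GS h)) Ideal.le_comap_map)) = Ideal.quotientMap ((I ^ (0 + 1)).map (algebraMap R (GS h)))
        (algebraMap R (GS h)) Ideal.le_comap_map := by
        ext x
        exact e.symm_apply_apply _
      rw [h5] at h4
      exact h4
    have h4 : (algebraMap R (GS h ⧸ (I ^ (0 + 1)).map (algebraMap R (GS h)))).FiniteType := 
      h3.comp (RingHom.FiniteType.of_surjective (Ideal.Quotient.mk (I ^ (0 + 1))) Ideal.Quotient.mk_surjective)
    rw [RingHom.finiteType_algebraMap] at h4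
    have h5 : (I ^ (0 + 1)).map (algebraMap R (GS h)) = I.map (algebraMap R (GS h)) := by
      rw [zero_add, pow_one]
    rw [h5] at h4
    exact h4
  have h1 := finitePresentation_trunc hR h0 hT n
  rw [hfac]
  obtain ⟨e, he⟩ := exists_equiv h hp hI n alg halg
  have h2 : LocallyOfFinitePresentation (Spec.map (CommRingCat.ofHom (glob (A := R ⧸ I ^ (n + 1)) ((p : Hom 𝔛 (spf R I)).app n)))) := by
    rw [LocallyOfFinitePresentation.SpecMap_iff, CommRingCat.hom_ofHom, he]
    exact (RingHom.FinitePresentation.of_bijective e.bijective).comp h1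
  exact @locallyOfFinitePresentation_comp _ _ _ (𝔛.X n).toSpecΓ (Spec.map (CommRingCat.ofHom
    (glob (A := R ⧸ I ^ (n + 1)) ((p : Hom 𝔛 (spf R I)).app n)))) inferInstance h2

end Affine

/-- The levels of a system without torsion and locally of finite type over a base of class (N) or (V) are locally
of finite presentation. -/
theorem lfp_of_noTors (hR : AdicRing.IsBase R I) (h : 𝔛.IsFormal) {p : 𝔛 ⟶ spf R I} (hp : IsAdicHom p)
    (hft : LocallyOfFiniteType ((p : Hom 𝔛 (spf R I)).app 0))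
    (htf : ∀ (U : (𝔛.X 0).Opens) (s : (𝔛.Osh h).obj.obj (op U)),
      (∀ a ∈ (IdealSh.ker (𝔛.OshProj h 0)).sect U, a * s = 0) → s = 0) (n : ℕ) :
    LocallyOfFinitePresentation ((p : Hom 𝔛 (spf R I)).app n) := by
  have hI := fg_of_isBase hR
  choose V hV hxV _ using fun x : 𝔛.X 0 => exists_affine_nhd x ⊤ trivial
  have hF := fun x => isFormal_restrictOpen h (V x)
  have hj : ∀ x, OpenImm (𝔛.restrictOpenι h (V x)) := fun x => openImm_restrictOpenι h (V x)
  have hrg : ∀ x, rg (𝔛.restrictOpenι h (V x)) (hj x) = V x := fun x => rg_restrictOpenι h (V x)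
  let 𝒰 : (𝔛.X n).OpenCover := {
    I₀ := 𝔛.X 0, X x := (𝔛.restrictOpen h (V x)).X n, f x := (𝔛.restrictOpenι h (V x) : Hom _ _).app n,
    mem₀ := by
      rw [Scheme.presieve₀_mem_precoverage_iff]
      refine ⟨fun x ↦ ⟨𝔛.gInv h n x, ?_⟩, fun x => hj x n⟩
      exact (mem_range_app_iff (hF _) h _ n x).2 ((hrg _).ge (hxV _)) }
  rw [IsZariskiLocalAtSource.iff_of_openCover (P := @LocallyOfFinitePresentation) 𝒰]
  intro x
  have aff := isAffine_restrictOpen h (hV x)
  have hp' : IsAdicHom (𝔛.restrictOpenι h (V x) ≫ p) := isAdicHom_comp ((hj x).isAdicHom (hF x) h) hp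
  have hft' : LocallyOfFiniteType ((𝔛.restrictOpenι h (V x) ≫ p : Hom _ (spf R I)).app 0) := by
    have := hj x 0
    exact locallyOfFiniteType_comp ((𝔛.restrictOpenι h (V x) : Hom _ _).app 0) ((p : Hom 𝔛 (spf R I)).app 0)
  refine lfp_affine (hF x) hp' hR hft' (fun y hy => ?_) n
  refine K25.NoTors.noTors_chart hI (adicOver_of_isAdicHom hp) htf (hF x) (hj x) fun i hi => ?_
  have e1 := sg_comp (hF x) h (𝔛.restrictOpenι h (V x)) (fun n => (p : Hom 𝔛 (spf R I)).app n ≫ spfToSpec R I n)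
    (adicOver_of_isAdicHom hp).compat _ (adicOver_of_isAdicHom hp').compat (fun n => (Category.assoc _ _ _).symm)
  have e2 := sg_comp (hF x) h (𝔛.restrictOpenι h (V x)) (fun n => (p : Hom 𝔛 (spf R I)).app n ≫ spfToSpec R I n)
    (adicOver_of_isAdicHom hp).compat _ ((adicOver_of_isAdicHom hp).comp h ((hj x).isAdicHom (hF x) h)).compat
    (fun n => rfl)
  rw [e2.trans e1.symm]
  exact hy i hi

/-- Admissible blow-ups are locally of finite type on the levels. -/
theorem lft_of_isAdmBlowUp (hI : I.FG) {h : 𝔛.IsFormal} {w : ∀ n, 𝔛.X n ⟶ Spec (CommRingCat.of R)}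
    {hw : AdicOver 𝔛 I w} (hL : LG h I w hw.compat)
    {K : IdealSh (𝔛.Osh h)} (hK : LGn h hw K) {h' : 𝔛'.IsFormal}
    {b : 𝔛' ⟶ 𝔛} (hb : IsAdmBlowUp b h' h K) (n : ℕ) : LocallyOfFiniteType ((b : Hom 𝔛' 𝔛).app n) := by
  have key : ∀ x' : 𝔛'.X 0, ∃ (C : Chart h hw K) (P : Scheme.{u}) (q : P ⟶ Spec (CommRingCat.of (GS C.hs)))
      (r : ∀ n, (pullbackSys b C.j).X n ⟶ P), ((b : Hom 𝔛' 𝔛).app 0) x' ∈ rg C.j C.hj ∧
      BlowUp.IsBlowUp q (idealSpec (GS C.hs) C.𝔟) ∧
      (∀ n, (pullbackSys b C.j).ι n ≫ r (n + 1) = r n) ∧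
      (∀ n, IsPullback (r n) ((pullbackSnd b C.j : Hom _ _).app n) q (kap C.hs n)) := by
    intro x'
    obtain ⟨C, hC, -⟩ := hK (((b : Hom 𝔛' 𝔛).app 0) x') ⊤ trivial
    have hcart := cart_pullback b C.j
    have hF : (pullbackSys b C.j).IsFormal :=
      isFormal_of_isAdicHom (isAdicHom_pullbackFst b (C.hj.isAdicHom C.hs h)) h'
    have hb' := IsAdmBlowUp.restrict hb hcart C.hj hF C.hs
    rw [C.e] at hb'
    have := C.aff
    have hL' : LG C.hs I (fun n => (C.j : Hom C.sys 𝔛).app n ≫ w n) (hw.comp h (C.hj.isAdicHom C.hs h)).compat := hL.restrict C.hs C.hj _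
    obtain ⟨P, q, r, hq, hr, hpb⟩ := exists_structure C.hs hI (hw.comp h (C.hj.isAdicHom C.hs h)) hL' C.hk hb'
    exact ⟨C, P, q, r, hC, hq, hr, hpb⟩
  choose C P q r hC hq hr hpb using key
  let 𝒰 : (𝔛'.X n).OpenCover := {
    I₀ := 𝔛'.X 0, X x := (pullbackSys b (C x).j).X n, f x := (pullbackFst b (C x).j : Hom _ _).app n,
    mem₀ := by
      rw [Scheme.presieve₀_mem_precoverage_iff]
      refine ⟨fun x ↦ ⟨𝔛'.gInv h' n x, ?_⟩, fun x => openImm_pullbackFst b (C x).hj n⟩
      have hF : (pullbackSys b (C (𝔛'.gInv h' n x)).j).IsFormal :=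
        isFormal_of_isAdicHom (isAdicHom_pullbackFst b ((C (𝔛'.gInv h' n x)).hj.isAdicHom (C (𝔛'.gInv h' n x)).hs h)) h'
      exact (mem_range_app_iff hF h' _ n x).2 ((mem_rg_pullbackFst _ (C (𝔛'.gInv h' n x)).hj).2 (hC _)) }
  rw [IsZariskiLocalAtSource.iff_of_openCover (P := @LocallyOfFiniteType) 𝒰]
  intro x
  have h1 : LocallyOfFiniteType (q x) := Groth.Agent.Ega4dB.BlowFT.locallyOfFiniteType_of_isBlowUp (fun U => by
    rw [idealSpec_eq_idl]
    have := comap_idl_ideal (C x).𝔟 (𝟙 (Spec (CommRingCat.of (GS (C x).hs)))) U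
    rw [Scheme.IdealSheafData.comap_id] at this
    rw [this]
    exact (C x).fg.map _) (hq x)
  have h2 : LocallyOfFiniteType ((pullbackSnd b (C x).j : Hom _ _).app n) :=
    MorphismProperty.of_isPullback (P := @LocallyOfFiniteType) (hpb x n) h1
  have := (C x).hj n
  have h3 : (pullbackFst b (C x).j : Hom _ _).app n ≫ (b : Hom 𝔛' 𝔛).app n =
      (pullbackSnd b (C x).j : Hom _ _).app n ≫ ((C x).j : Hom _ _).app n := (cart_pullback b (C x).j n).w
  change LocallyOfFiniteType ((pullbackFst b (C x).j : Hom _ _).app n ≫ (b : Hom 𝔛' 𝔛).app n)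
  rw [h3]
  exact locallyOfFiniteType_comp _ _

end K25.Lfp
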