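import Groth.Agent.FBlow.K788.Hyp
import Mathlib.RingTheory.Ideal.AssociatedPrime.Finiteness

/-!
# Admissible blow-ups have no torsion
-/

set_option autoImplicit false

universe u

open CategoryTheory CategoryTheory.Limits TopologicalSpace Opposite AlgebraicGeometry

namespace K25.NoTors

open FSch FBlow K788.Osh K788.IdSh K788.GenL K788.SysB K788.IdMap K788.Restr K788.Aff K788.AffSch K788.UP K788.Inv K788.SpfB
open K788.AffStr K788.Crt K788.AffV K788.CohL K788.ARed K788.LocB K788.LocC K788.Glob K788.Hyp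
open Groth.Agent.Divis.BlowChart Groth.Agent.Fcompl.H552.IdealSpec Groth.Agent.Divis.BlowTwist

variable {𝔛 𝔛' 𝔜 ℨ 𝔘 𝔚 : FSch.Sys.{u}} {R : Type u} [CommRing R] {I : Ideal R}

/-- A regular element of an ideal without torsion, with the Artin-Rees property on the blow-up. -/
theorem exists_regular {A : Type u} [CommRing A] {K 𝔞 : Ideal A} (hA : Gd A K)
    (hT : ∀ x : A, (∀ a ∈ K, a * x = 0) → x = 0) {P : Scheme.{u}} {q : P ⟶ Spec (CommRingCat.of A)}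
    (hq : BlowUp.IsBlowUp q (idealSpec A 𝔞)) : ∃ g ∈ K, g ∈ nonZeroDivisors A ∧
      ∀ W : P.affineOpens, AR (((idealSpec A K).comap q).ideal W) (rho q W.1 g) := by
  rcases hA with hN | ⟨t, ht, rfl⟩
  · obtain ⟨g, hgK, hg⟩ : ∃ g ∈ K, g ∈ nonZeroDivisors A := by
      by_contra hcon
      push Not at hcon
      have h1 : Disjoint (K : Set A) (nonZeroDivisors A) := by
        rw [Set.disjoint_left]
        exact fun a ha => hcon a ha
      have h2 := Ideal.bot_lt_annihilator_of_disjoint_nonZeroDivisors h1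
      obtain ⟨x, hx, hx0⟩ := SetLike.exists_of_lt h2
      refine hx0 ?_
      rw [Ideal.mem_bot]
      refine hT x fun a ha => ?_
      rw [Submodule.mem_annihilator] at hx
      rw [mul_comm]
      exact hx a ha
    refine ⟨g, hgK, hg, fun W => ?_⟩
    have : IsLocallyNoetherian (Spec (CommRingCat.of A)) := inferInstance
    have := Groth.Agent.Ega4dB.BlowFT.isLocallyNoetherian_of_isBlowUp hq
    have : IsNoetherianRing Γ(P, W.1) := IsLocallyNoetherian.component_noetherian W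
    exact AR.of_noeth _ (rho_mem_nonZeroDivisors hq hg W)
  · refine ⟨t, Ideal.mem_span_singleton_self t, ht, fun W => ?_⟩
    have h2 : ((idealSpec A (Ideal.span {t})).comap q).ideal W = Ideal.span {rho q W.1 t} := by
      rw [idealSpec_eq_idl, comap_idl, Ideal.map_span, Set.image_singleton]
    rw [h2]
    refine AR.of_span (rho_mem_nonZeroDivisors hq ht W) (k := 1) ?_
    rw [pow_one]
    exact Ideal.mem_span_singleton_self _

section Local

variable {h : 𝔛.IsFormal} (hI : I.FG) {w : ∀ n, 𝔛.X n ⟶ Spec (CommRingCat.of R)} (hw : AdicOver 𝔛 I w)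
  [IsAffine (𝔛.X 0)] {h' : 𝔛'.IsFormal} {b : 𝔛' ⟶ 𝔛} {P : Scheme.{u}} {q : P ⟶ Spec (CommRingCat.of (GS h))}
  {r : ∀ n, 𝔛'.X n ⟶ P} (hr : ∀ n, 𝔛'.ι n ≫ r (n + 1) = r n)
  (hpb : ∀ n, IsPullback (r n) ((b : Hom 𝔛' 𝔛).app n) q (kap h n))

include hI hr hpb in
theorem nzd_gsMap_of_ar {g : GS h}
    (hAR : ∀ W : P.affineOpens, AR (((idealSpec (GS h) (I.map (sg h w hw.compat))).comap q).ideal W) (rho q W.1 g)) :
    Nzd (𝔛'.Osh h') ⊤ (gsMap h' h b g) := by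
  intro V i s hs
  refine eq_of_local (O := 𝔛'.Osh h') fun x hx => ?_
  obtain ⟨W, hW, hxW, -⟩ := Opens.isBasis_iff_nbhd.mp P.isBasis_affineOpens (show r 0 x ∈ (⊤ : P.Opens) from trivial)
  refine ⟨V ⊓ r 0 ⁻¹ᵁ W, inf_le_left, ⟨hx, hxW⟩, ?_⟩
  rw [map_zero]
  have hc := isCompl_of_isPullback (isCompl_kap h hI hw) b hr hpb
  have h1 : Nzd (𝔛'.Osh h') (r 0 ⁻¹ᵁ W) (rs (𝔛'.Osh h') (le_top : r 0 ⁻¹ᵁ W ≤ ⊤) (gsMap h' h b g)) := by
    rw [rs_gsMap (h' := h') hr hpb]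
    exact nzd_ssh h' hc ⟨W, hW⟩ (hAR ⟨W, hW⟩)
  refine h1 _ inf_le_right _ ?_
  have e := congrArg (rs (𝔛'.Osh h') (inf_le_left : V ⊓ r 0 ⁻¹ᵁ W ≤ V)) hs
  rw [map_mul, rs_rs, map_zero] at e
  rw [rs_rs]
  exact e

end Local

/-- Absence of torsion on an affine chart, in terms of the ring of global sections. -/
theorem noTors_chart (hI : I.FG) {h : 𝔛.IsFormal} {w : ∀ n, 𝔛.X n ⟶ Spec (CommRingCat.of R)} (hw : AdicOver 𝔛 I w)
    (htf : ∀ (U : (𝔛.X 0).Opens) (s : (𝔛.Osh h).obj.obj (op U)),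
      (∀ a ∈ (IdealSh.ker (𝔛.OshProj h 0)).sect U, a * s = 0) → s = 0)
    (h𝔚 : 𝔚.IsFormal) [IsAffine (𝔚.X 0)] {j : 𝔚 ⟶ 𝔛} (hj : OpenImm j) {x : GS h𝔚}
    (hx : ∀ i ∈ I, sg h𝔚 (fun n => (j : Hom 𝔚 𝔛).app n ≫ w n) (hw.comp h (hj.isAdicHom h𝔚 h)).compat i * x = 0) :
    x = 0 := by
  have := hj 0
  have hV : IsAffineOpen (rg j hj) := isAffineOpen_opensRange _
  have hbij := sh_bijective h𝔚 h hj (le_refl (rg j hj))
  have hle : pre j (rg j hj) ≤ ⊤ := le_top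
  obtain ⟨y, hy⟩ := hbij.2 (rs (𝔚.Osh h𝔚) hle x)
  have hy0 : y = 0 := by
    refine htf _ y fun a ha => ?_
    have h2 : pr 𝔛 h 0 (rg j hj) a = 0 := ha
    obtain ⟨-, h4⟩ := pr_affineOpen h hI hw hV 0
    have h5 : a ∈ RingHom.ker (pr 𝔛 h 0 (rg j hj)) := h2
    rw [h4, zero_add, pow_one] at h5
    refine Submodule.span_induction (p := fun a _ => a * y = 0) ?_ ?_ ?_ ?_ h5
    · rintro _ ⟨i, hi, rfl⟩
      refine (map_eq_zero_iff (sh h𝔚 j h (rg j hj)) hbij.1).1 ?_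
      rw [map_mul, hy]
      have e1 : sh h𝔚 j h (rg j hj) (((rs (𝔛.Osh h) (le_top : rg j hj ≤ ⊤)).comp (sg h w hw.compat)) i) =
          rs (𝔚.Osh h𝔚) hle (sg h𝔚 (fun n => (j : Hom 𝔚 𝔛).app n ≫ w n) (hw.comp h (hj.isAdicHom h𝔚 h)).compat i) := by
        rw [sg_comp h𝔚 h j w hw.compat _ (hw.comp h (hj.isAdicHom h𝔚 h)).compat (fun _ => rfl)]
        exact sh_res h𝔚 j h (le_top : rg j hj ≤ ⊤) (sg h w hw.compat i)
      rw [e1, ← map_mul, hx i hi, map_zero]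
    · rw [zero_mul]
    · intro a b _ _ ha hb
      rw [add_mul, ha, hb, add_zero]
    · intro c a _ ha
      rw [smul_eq_mul, mul_assoc, ha, mul_zero]
  have e2 : rs (𝔚.Osh h𝔚) (pre_rg j hj) (rs (𝔚.Osh h𝔚) hle x) = x := by
    rw [rs_rs, rs_self]
  rw [← e2, ← hy, hy0, map_zero, map_zero]

/-- A section annihilated by the kernel of the projection to level `0` is annihilated by the base ideal. -/
theorem mul_sg_eq_zero (h : 𝔛.IsFormal) {w : ∀ n, 𝔛.X n ⟶ Spec (CommRingCat.of R)} (hw : AdicOver 𝔛 I w)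
    (hw0 : ∀ i ∈ I, glob (w 0) i = 0) {U : (𝔛.X 0).Opens} {s : Sec 𝔛 h U}
    (hs : ∀ a ∈ (IdealSh.ker (𝔛.OshProj h 0)).sect U, a * s = 0) {i : R} (hi : i ∈ I) :
    rs (𝔛.Osh h) (le_top : U ≤ ⊤) (sg h w hw.compat i) * s = 0 := by
  refine hs _ ?_
  change pr 𝔛 h 0 U (rs (𝔛.Osh h) (le_top : U ≤ ⊤) (sg h w hw.compat i)) = 0
  have h1 := pr_res h 0 (le_top : U ≤ ⊤) (sg h w hw.compat i)
  have h2 : pr 𝔛 h 0 ⊤ (sg h w hw.compat i) = 0 := (prT_sg h w hw.compat 0 i).trans (hw0 i hi)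
  refine h1.trans ?_
  rw [h2, map_zero]

/-- Admissible blow-ups of systems without torsion have no torsion. -/
theorem noTors_of_isAdmBlowUp (hI : I.FG) {h : 𝔛.IsFormal} {w : ∀ n, 𝔛.X n ⟶ Spec (CommRingCat.of R)}
    {hw : AdicOver 𝔛 I w} (hL : LG h I w hw.compat) (hw0 : ∀ i ∈ I, glob (w 0) i = 0)
    (htf : ∀ (U : (𝔛.X 0).Opens) (s : (𝔛.Osh h).obj.obj (op U)),
      (∀ a ∈ (IdealSh.ker (𝔛.OshProj h 0)).sect U, a * s = 0) → s = 0)
    {K : IdealSh (𝔛.Osh h)} (hK : LGn h hw K) {h' : 𝔛'.IsFormal}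
    {b : 𝔛' ⟶ 𝔛} (hb : IsAdmBlowUp b h' h K) (U : (𝔛'.X 0).Opens) (s : (𝔛'.Osh h').obj.obj (op U))
    (hs : ∀ a ∈ (IdealSh.ker (𝔛'.OshProj h' 0)).sect U, a * s = 0) : s = 0 := by
  have hw0' : ∀ i ∈ I, glob ((b : Hom 𝔛' 𝔛).app 0 ≫ w 0) i = 0 := fun i hi => by
    rw [glob_comp]
    change ((b : Hom 𝔛' 𝔛).app 0).appTop.hom (glob (w 0) i) = 0
    rw [hw0 i hi, map_zero]
  have hsi : ∀ i ∈ I, rs (𝔛'.Osh h') (le_top : U ≤ ⊤)
      (sg h' (fun n => (b : Hom 𝔛' 𝔛).app n ≫ w n) (hw.comp h hb.1).compat i) * s = 0 := fun i hi =>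
    mul_sg_eq_zero h' (hw.comp h hb.1) hw0' hs hi
  refine eq_of_local (O := 𝔛'.Osh h') fun x' hx' => ?_
  obtain ⟨C, hC, -⟩ := hK (((b : Hom 𝔛' 𝔛).app 0) x') ⊤ trivial
  have hcart := cart_pullback b C.j
  have hF : (pullbackSys b C.j).IsFormal :=
    isFormal_of_isAdicHom (isAdicHom_pullbackFst b (C.hj.isAdicHom C.hs h)) h'
  have hb' := IsAdmBlowUp.restrict hb hcart C.hj hF C.hs
  rw [C.e] at hb'
  have := C.aff
  have hwC := hw.comp h (C.hj.isAdicHom C.hs h)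
  have hL' : LG C.hs I (fun n => (C.j : Hom C.sys 𝔛).app n ≫ w n) hwC.compat := hL.restrict C.hs C.hj _
  obtain ⟨P, q, r, hq, hr, hpb⟩ := exists_structure C.hs hI hwC hL' C.hk hb'
  obtain ⟨g, hgK, hg, hAR⟩ := exists_regular (hL'.gd hI hwC) (fun x hx =>
    noTors_chart hI hw htf C.hs C.hj fun i hi => hx _ (Ideal.mem_map_of_mem _ hi)) hq
  have hnzd := nzd_gsMap_of_ar hI hwC (h' := hF) hr hpb hAR
  have hj' : OpenImm (pullbackFst b C.j) := openImm_pullbackFst _ C.hj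
  refine ⟨U ⊓ rg (pullbackFst b C.j) hj', inf_le_left, ⟨hx', (mem_rg_pullbackFst _ C.hj).2 hC⟩, ?_⟩
  rw [map_zero]
  have hbij := sh_bijective hF h' hj' (inf_le_right : U ⊓ rg (pullbackFst b C.j) hj' ≤ _)
  refine (map_eq_zero_iff _ hbij.1).1 (hnzd _ le_top _ ?_)
  have e1 : ∀ t : R, gsMap hF h' (pullbackFst b C.j)
        (sg h' (fun n => (b : Hom 𝔛' 𝔛).app n ≫ w n) (hw.comp h hb.1).compat t) =
      gsMap hF C.hs (pullbackSnd b C.j) (sg C.hs (fun n => (C.j : Hom C.sys 𝔛).app n ≫ w n) hwC.compat t) := by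
    intro t
    have e2 := sg_comp hF h' (pullbackFst b C.j) (fun n => (b : Hom 𝔛' 𝔛).app n ≫ w n) (hw.comp h hb.1).compat
      (fun n => ((pullbackFst b C.j ≫ b : _ ⟶ _) : Hom _ _).app n ≫ w n)
      (hw.comp h (isAdicHom_comp ((openImm_pullbackFst b C.hj).isAdicHom hF h') hb.1)).compat
      (fun n => (Category.assoc _ _ _).symm)
    have e3 := sg_comp hF C.hs (pullbackSnd b C.j) (fun n => (C.j : Hom C.sys 𝔛).app n ≫ w n) hwC.compat
      (fun n => ((pullbackFst b C.j ≫ b : _ ⟶ _) : Hom _ _).app n ≫ w n)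
      (hw.comp h (isAdicHom_comp ((openImm_pullbackFst b C.hj).isAdicHom hF h') hb.1)).compat
      (fun n => by rw [hcart.w]; exact (Category.assoc _ _ _).symm)
    exact (congrArg (fun f : R →+* _ => f t) e2).symm.trans (congrArg (fun f : R →+* _ => f t) e3)
  have key : ∀ z ∈ (I.map (sg C.hs (fun n => (C.j : Hom C.sys 𝔛).app n ≫ w n) hwC.compat)),
      sh hF (pullbackFst b C.j) h' (U ⊓ rg (pullbackFst b C.j) hj')
        (rs (𝔛'.Osh h') (inf_le_left : U ⊓ rg (pullbackFst b C.j) hj' ≤ U) s) *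
      rs ((pullbackSys b C.j).Osh hF) (le_top : pre (pullbackFst b C.j) (U ⊓ rg (pullbackFst b C.j) hj') ≤ ⊤)
        (gsMap hF C.hs (pullbackSnd b C.j) z) = 0 := by
    intro z hz
    refine Submodule.span_induction (p := fun z _ => _ * rs ((pullbackSys b C.j).Osh hF) _
      (gsMap hF C.hs (pullbackSnd b C.j) z) = 0) ?_ ?_ ?_ ?_ hz
    · rintro _ ⟨i, hi, rfl⟩
      change _ * rs _ _ (gsMap hF C.hs (pullbackSnd b C.j) (sg C.hs _ hwC.compat i)) = 0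
      rw [← e1 i]
      have e4 := sh_res hF (pullbackFst b C.j) h' (le_top : U ⊓ rg (pullbackFst b C.j) hj' ≤ ⊤)
        (sg h' (fun n => (b : Hom 𝔛' 𝔛).app n ≫ w n) (hw.comp h hb.1).compat i)
      have e5 := congrArg (rs (𝔛'.Osh h') (inf_le_left : U ⊓ rg (pullbackFst b C.j) hj' ≤ U)) (hsi i hi)
      rw [map_mul, rs_rs, map_zero] at e5
      have e6 := congrArg (sh hF (pullbackFst b C.j) h' (U ⊓ rg (pullbackFst b C.j) hj')) e5
      rw [map_mul, map_zero] at e6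
      rw [mul_comm]
      refine Eq.trans ?_ e6
      exact congrArg (· * _) e4.symm
    · rw [map_zero, map_zero, mul_zero]
    · intro a c _ _ ha hc
      rw [map_add, map_add, mul_add, ha, hc, add_zero]
    · intro c a _ ha
      rw [smul_eq_mul, map_mul, map_mul, mul_left_comm, ha, mul_zero]
  exact key g hgK

end K25.NoTors
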