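import Groth.Agent.FBlow.K788.SpfB
import Groth.Agent.Flat2C.BlowExist

/-!
# Every admissible formal blow-up of `Spf A` is the completion of a scheme-theoretic blow-up
-/

set_option autoImplicit false

universe u

open CategoryTheory CategoryTheory.Limits TopologicalSpace Opposite AlgebraicGeometry

namespace K25.Pres

open FSch FBlow K788.Inv K788.SpfB K788.SysB K788.Osh K788.Restr

variable {A : Type u} [CommRing A] (K : Ideal A) {P : Scheme.{u}} (q : P ⟶ Spec (CommRingCat.of A))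

/-- The base change of `q : P ⟶ Spec A` to the formal spectrum. -/
noncomputable def mdl : FSch.Sys.{u} where
  X n := pullback q (spfToSpec A K n)
  ι n := pullback.lift (pullback.fst _ _) (pullback.snd _ _ ≫ (spf A K).ι n) (by
    rw [Category.assoc, spfToSpec_comm A K n, pullback.condition])

/-- The projection of the base change to `Spf A`. -/
noncomputable def mdlHom : mdl K q ⟶ spf A K :=
  ⟨fun _ => pullback.snd _ _, fun _ => (pullback.lift_snd _ _ _).symm⟩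

/-- The projection of the base change to `P`. -/
noncomputable def mdlR (n : ℕ) : (mdl K q).X n ⟶ P := pullback.fst _ _

theorem mdlR_comm (n : ℕ) : (mdl K q).ι n ≫ mdlR K q (n + 1) = mdlR K q n := pullback.lift_fst _ _ _

theorem mdl_isPullback (n : ℕ) : IsPullback (mdlR K q n) ((mdlHom K q : Hom (mdl K q) (spf A K)).app n) q (spfToSpec A K n) :=
  IsPullback.of_hasPullback _ _

theorem mdl_isAdicHom : IsAdicHom (mdlHom K q) := by
  intro n
  have h1 : IsPullback ((mdl K q).ι n ≫ mdlR K q (n + 1)) ((mdlHom K q : Hom (mdl K q) (spf A K)).app n) q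
      ((spf A K).ι n ≫ spfToSpec A K (n + 1)) := by
    rw [mdlR_comm, spfToSpec_comm]
    exact mdl_isPullback K q n
  exact IsPullback.of_right h1 ((mdlHom K q : Hom (mdl K q) (spf A K)).comm n).symm (mdl_isPullback K q (n + 1))

theorem mdl_isFormal (hX : (spf A K).IsFormal) : (mdl K q).IsFormal := isFormal_of_isAdicHom (mdl_isAdicHom K q) hX

variable {K}

/-- Every admissible formal blow-up of `Spf A` in an open ideal `𝔞` is presented by a scheme-theoretic blow-up. -/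
theorem exists_presentation {𝔞 : Ideal A} (hGd : Gd A K) {k : ℕ} (hk : K ^ k ≤ 𝔞) (hX : (spf A K).IsFormal)
    {𝔛' : FSch.Sys.{u}} (h' : 𝔛'.IsFormal) (b : 𝔛' ⟶ spf A K)
    (hb : IsAdmBlowUp b h' hX (schIdealMap (spf A K) hX (spfToSpec A K) (spfToSpec_comm A K)
      (IdealSh.ofData (idealSpec A 𝔞)))) :
    ∃ (P : Scheme.{u}) (q : P ⟶ Spec (CommRingCat.of A)) (_ : BlowUp.IsBlowUp q (idealSpec A 𝔞))
      (r : ∀ n, 𝔛'.X n ⟶ P), (∀ n, 𝔛'.ι n ≫ r (n + 1) = r n) ∧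
        ∀ n, IsPullback (r n) ((b : Hom 𝔛' (spf A K)).app n) q (spfToSpec A K n) := by
  obtain ⟨P, q, hq⟩ := Groth.Agent.Flat2C.BlowExist.exists_isBlowUp (idealSpec A 𝔞)
  have hF := mdl_isFormal K q hX
  have hb' : IsAdmBlowUp (mdlHom K q) hF hX (schIdealMap (spf A K) hX (spfToSpec A K) (spfToSpec_comm A K)
      (IdealSh.ofData (idealSpec A 𝔞))) :=
    isAdmBlowUp_of_isPullback hF hGd (k := k) hk hq hX (spfToSpec A K) (isCompl_spf A K) (mdlHom K q)
      (mdlR_comm K q) (mdl_isPullback K q)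
  obtain ⟨k₁, hk₁, -⟩ := hb'.2.2 𝔛' h' b hb.1 hb.2.1
  obtain ⟨k₂, hk₂, -⟩ := hb.2.2 (mdl K q) hF (mdlHom K q) hb'.1 hb'.2.1
  have e1 : k₁ ≫ k₂ = 𝟙 𝔛' := by
    refine (hb.2.2 𝔛' h' b hb.1 hb.2.1).unique ?_ ?_
    · change (k₁ ≫ k₂) ≫ b = b
      rw [Category.assoc, hk₂, hk₁]
    · change 𝟙 𝔛' ≫ b = b
      rw [Category.id_comp]
  have e2 : k₂ ≫ k₁ = 𝟙 (mdl K q) := by
    refine (hb'.2.2 (mdl K q) hF (mdlHom K q) hb'.1 hb'.2.1).unique ?_ ?_
    · change (k₂ ≫ k₁) ≫ mdlHom K q = mdlHom K q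
      rw [Category.assoc, hk₁, hk₂]
    · change 𝟙 (mdl K q) ≫ mdlHom K q = mdlHom K q
      rw [Category.id_comp]
  have e1n : ∀ n, (k₁ : Hom 𝔛' (mdl K q)).app n ≫ (k₂ : Hom (mdl K q) 𝔛').app n = 𝟙 _ := fun n =>
    congrArg (fun t : Hom 𝔛' 𝔛' => t.app n) e1
  have e2n : ∀ n, (k₂ : Hom (mdl K q) 𝔛').app n ≫ (k₁ : Hom 𝔛' (mdl K q)).app n = 𝟙 _ := fun n =>
    congrArg (fun t : Hom (mdl K q) (mdl K q) => t.app n) e2
  have hk₁n : ∀ n, (k₁ : Hom 𝔛' (mdl K q)).app n ≫ (mdlHom K q : Hom (mdl K q) (spf A K)).app n =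
      (b : Hom 𝔛' (spf A K)).app n := fun n =>
    congrArg (fun t : Hom 𝔛' (spf A K) => t.app n) hk₁
  refine ⟨P, q, hq, fun n => (k₁ : Hom 𝔛' (mdl K q)).app n ≫ mdlR K q n, fun n => ?_, fun n => ?_⟩
  · rw [← Category.assoc, ← (k₁ : Hom 𝔛' (mdl K q)).comm n, Category.assoc, mdlR_comm]
  · let e : 𝔛'.X n ≅ (mdl K q).X n := ⟨_, _, e1n n, e2n n⟩
    refine IsPullback.of_iso (mdl_isPullback K q n) e.symm (Iso.refl _) (Iso.refl _) (Iso.refl _) ?_ ?_ ?_ ?_
    · rw [Iso.refl_hom, Category.comp_id]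
      change _ = e.inv ≫ (e.hom ≫ mdlR K q n)
      rw [Iso.inv_hom_id_assoc]
    · rw [Iso.refl_hom, Category.comp_id, ← hk₁n]
      change _ = e.inv ≫ (e.hom ≫ _)
      rw [Iso.inv_hom_id_assoc]
    · rw [Iso.refl_hom, Iso.refl_hom, Category.id_comp, Category.comp_id]
    · rw [Iso.refl_hom, Iso.refl_hom, Category.id_comp, Category.comp_id]

end K25.Pres
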